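import Cfsg.Agent.H11.J4Pent.Line
import Cfsg.Agent.H5.Eight.Reduce

/-!
The centralizer of the line and its normaliser: orders.
-/

set_option autoImplicit false
set_option linter.unusedSectionVars false
set_option linter.style.haveILetI false

namespace H11.J4Pent

open Subgroup Cfsg.Agent.H69.J4 H88.J4Fusion H95.J4Five

variable {G : Type*} [Group G] [Finite G]
variable {z : G} {E P N : Subgroup G} {d : Data z E P} (R : Real d)
  {e : ↥(centralizer ({z} : Set G)) →* MulAut ↥Cfsg.Spor.M22}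

theorem lineV_lt {v : ℕ} (hv : v ∈ lineV) : v < 4096 := by
  simp only [lineV, List.mem_cons, List.not_mem_nil, or_false] at hv
  omega

theorem lineE_le : lineE R ≤ E := fun _ hx => hx.1

theorem z_mem_lineE : z ∈ lineE R :=
  ⟨d.L.z_mem, 0, by decide, by rw [R.φ_zero]; exact ((d.mk_eq_one).2 (Or.inr rfl)).symm⟩

theorem lineE_le_H : lineE R ≤ centralizer ({z} : Set G) :=
  fun _ hx => d.L.le_H (lineE_le R hx)

/-- Coordinates of an element of `E`. -/
theorem exists_coord {x : G} (hx : x ∈ E) :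
    ∃ v < 4096, R.φ v = QuotientGroup.mk (⟨x, hx⟩ : E) := R.φ_surj _

/-- An element over a vector. -/
theorem exists_over (v : ℕ) : ∃ (x : G) (hx : x ∈ E), R.φ v = QuotientGroup.mk (⟨x, hx⟩ : E) := by
  obtain ⟨a, ha⟩ := QuotientGroup.mk_surjective (R.φ v)
  exact ⟨a, a.2, ha.symm⟩

theorem mem_lineE_iff {x : G} (hx : x ∈ E) {v : ℕ} (hv : v < 4096)
    (h : R.φ v = QuotientGroup.mk (⟨x, hx⟩ : E)) : x ∈ lineE R ↔ v ∈ lineV := by
  constructor
  · rintro ⟨hx', w, hw, hwx⟩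
    rwa [R.φ_inj hv (lineV_lt hw) (h.trans hwx.symm)]
  · exact fun hl => ⟨hx, v, hl, h⟩

/-- The centralizer of the line. -/
abbrev CZ : Subgroup G := centralizer (lineE R : Set G)

/-- The part in `E`. -/
def EZ : Subgroup G := E ⊓ CZ R

theorem CZ_le_H : CZ R ≤ centralizer ({z} : Set G) := fun _ hx =>
  mem_centralizer_singleton_iff.2 (mem_centralizer_iff.1 hx z (z_mem_lineE R)).symm

include R in
theorem bF_line {u : ℕ} (hu : u < 4096) :
    (∀ v ∈ lineV, bF u v = false) ↔ dMask.testBit u = true := by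
  have h := (List.all_eq_true.1 dMask_ok) u (List.mem_range.2 hu)
  rw [beq_iff_eq] at h
  rw [h, Bool.and_eq_true, Bool.not_eq_true', Bool.not_eq_true']
  constructor
  · exact fun h => ⟨h 1025 (by decide), h 2618 (by decide)⟩
  · rintro ⟨h1, h2⟩ v hv
    obtain ⟨x, hx, hxu⟩ := exists_over R u
    obtain ⟨a, ha, hau⟩ := exists_over R 1025
    obtain ⟨b, hb, hbu⟩ := exists_over R 2618
    have c1 := (comm_bF R hx ha hu (by norm_num) hxu hau).2 h1
    have c2 := (comm_bF R hx hb hu (by norm_num) hxu hbu).2 h2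
    simp only [lineV, List.mem_cons, List.not_mem_nil, or_false] at hv
    rcases hv with rfl | rfl | rfl | rfl
    · refine (comm_bF R hx (one_mem E) hu (by norm_num) hxu ?_).1 (by simp)
      rw [R.φ_zero]
      exact ((d.mk_eq_one).2 (Or.inl rfl)).symm
    · exact h1
    · exact h2
    · refine (comm_bF R hx (mul_mem ha hb) hu (by norm_num) hxu ?_).1
        ((show Commute x a from c1).mul_right c2).eq
      rw [show (3643 : ℕ) = 1025 ^^^ 2618 from rfl, R.φ_xor, hau, hbu]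
      rfl

theorem mem_EZ_iff {x : G} (hx : x ∈ E) {v : ℕ} (hv : v < 4096)
    (h : R.φ v = QuotientGroup.mk (⟨x, hx⟩ : E)) : x ∈ EZ R ↔ dMask.testBit v = true := by
  rw [← bF_line R hv, EZ, mem_inf, and_iff_right hx, CZ, mem_centralizer_iff]
  constructor
  · intro hc w hw
    obtain ⟨y, hy, hyw⟩ := exists_over R w
    exact (comm_bF R hx hy hv (lineV_lt hw) h hyw).1
      (hc y ⟨hy, w, hw, hyw⟩).symm
  · rintro hc y ⟨hy, w, hw, hyw⟩
    exact ((comm_bF R hx hy hv (lineV_lt hw) h hyw).2 (hc w hw)).symm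

theorem lineE_le_EZ : lineE R ≤ EZ R := by
  rintro x ⟨hx, v, hv, hvx⟩
  refine (mem_EZ_iff R hx (lineV_lt hv) hvx).2 ?_
  have h := (List.all_eq_true.1 line_D) v hv
  rw [Bool.and_eq_true] at h
  exact h.1

theorem lineE_le_CZ : lineE R ≤ CZ R := (lineE_le_EZ R).trans inf_le_right

theorem lineE_sq {x : G} (hx : x ∈ lineE R) : x * x = 1 := by
  obtain ⟨hxE, v, hv, hvx⟩ := hx
  have h := (List.all_eq_true.1 line_D) v hv
  rw [Bool.and_eq_true, Bool.not_eq_true'] at h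
  exact (quad_eq R hxE (lineV_lt hv) hvx).2 h.2

theorem card_EZ : Nat.card (EZ R) = 2 ^ 11 := by
  classical
  set o := (List.range 4096).filter fun v => dMask.testBit v with ho
  have h := card_over_vF R (o := o) (fun v hv => List.mem_range.1 (List.mem_filter.1 hv).1)
    (List.nodup_range.filter _)
  rw [ho, dMask_card] at h
  refine Eq.trans ?_ h
  rw [← Nat.card_coe_set_eq]
  refine Nat.card_congr (Equiv.subtypeEquivRight fun x => ?_)
  constructor
  · intro hx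
    obtain ⟨v, hv, hvx⟩ := exists_coord R hx.1
    exact ⟨hx.1, v, List.mem_filter.2 ⟨List.mem_range.2 hv, (mem_EZ_iff R hx.1 hv hvx).1 hx⟩, hvx⟩
  · rintro ⟨hx, v, hv, hvx⟩
    obtain ⟨h1, h2⟩ := List.mem_filter.1 hv
    exact (mem_EZ_iff R hx (List.mem_range.1 h1) hvx).2 h2

theorem ρ_fix {x : G} (hx : x ∈ CZ R) {v : ℕ} (hv : v ∈ lineV) :
    d.ρ ⟨x, CZ_le_H R hx⟩ (R.φ v) = R.φ v := by
  obtain ⟨y, hy, hyv⟩ := exists_over R v
  rw [hyv, d.ρ_mk]
  refine congrArg QuotientGroup.mk (Subtype.ext ?_)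
  show x * y * x⁻¹ = y
  rw [← mem_centralizer_iff.1 hx y ⟨hy, v, hv, hyv⟩, mul_inv_cancel_right]

/-- Adjust an element of `H` into the centralizer of the line by an element of `E`. -/
theorem adjust (h : ↥(centralizer ({z} : Set G))) (ha : d.ρ h (R.φ 1025) = R.φ 1025)
    (hb : d.ρ h (R.φ 2618) = R.φ 2618) :
    ∃ u, ∃ hu : u ∈ E, u * (h : G) ∈ CZ R := by
  classical
  obtain ⟨a, haE, hau⟩ := exists_over R 1025
  obtain ⟨b, hbE, hbu⟩ := exists_over R 2618
  obtain ⟨p, hpE, hpu⟩ := exists_over R v10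
  obtain ⟨r, hrE, hru⟩ := exists_over R v01
  obtain ⟨k1, k2, hk, k3, k4, hk'⟩ := v10_ok
  have hflip : ∀ {y : G} {c : G} (_ : y ∈ E) (_ : c ∈ E) {u v : ℕ} (_ : u < 4096) (_ : v < 4096),
      ∀ (hyu : R.φ u = QuotientGroup.mk (⟨y, ‹y ∈ E›⟩ : E))
        (hcv : R.φ v = QuotientGroup.mk (⟨c, ‹c ∈ E›⟩ : E)),
      (bF u v = true → y * c * y⁻¹ = c * z) ∧ (bF u v = false → y * c * y⁻¹ = c) := by
    intro y c hy hc u v hu hv hyu hcv
    have hiff := comm_bF R hy hc hu hv hyu hcv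
    refine ⟨fun h => ?_, fun h => by rw [hiff.2 h, mul_inv_cancel_right]⟩
    rcases d.L.conj_cases hy hc with h' | h'
    · rw [hiff.1 h'] at h
      exact absurd h (by decide)
    · rw [h', d.L.commute_z hc]
  obtain ⟨p1, p2⟩ := hflip hpE haE hk (by norm_num : 1025 < 4096) hpu hau
  obtain ⟨p3, p4⟩ := hflip hpE hbE hk (by norm_num : 2618 < 4096) hpu hbu
  obtain ⟨r1, r2⟩ := hflip hrE haE hk' (by norm_num : 1025 < 4096) hru hau
  obtain ⟨r3, r4⟩ := hflip hrE hbE hk' (by norm_num : 2618 < 4096) hru hbu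
  have hzc : ∀ x ∈ E, x * z * x⁻¹ = z := fun x hx => by
    rw [d.L.commute_z hx, mul_inv_cancel_right]
  have hmain : ∀ x : G, x ∈ centralizer ({z} : Set G) → x * a * x⁻¹ = a → x * b * x⁻¹ = b →
      x ∈ CZ R := by
    intro x hxz h1 h2
    refine mem_centralizer_iff.2 ?_
    rintro y ⟨hy, v, hv, hvy⟩
    have hz' : Commute x z := mem_centralizer_singleton_iff.1 hxz
    have h1' : Commute x a := mul_inv_eq_iff_eq_mul.1 h1
    have h2' : Commute x b := mul_inv_eq_iff_eq_mul.1 h2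
    have key : ∀ (c : G) (hc : c ∈ E), R.φ v = QuotientGroup.mk (⟨c, hc⟩ : E) → Commute x c →
        y * x = x * y := by
      intro c hc hcv hxc
      rcases (d.mk_eq_iff).1 (hvy.symm.trans hcv) with e | e <;> change c = _ at e
      · rw [← show c = y from e]; exact hxc.symm.eq
      · have : y = c * z := by rw [e, mul_assoc, d.L.zz, mul_one]
        rw [this]; exact (hxc.mul_right hz').symm.eq
    simp only [lineV, List.mem_cons, List.not_mem_nil, or_false] at hv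
    rcases hv with rfl | rfl | rfl | rfl
    · exact key 1 (one_mem E) (by rw [R.φ_zero]; exact ((d.mk_eq_one).2 (Or.inl rfl)).symm)
        (Commute.one_right x)
    · exact key a haE hau h1'
    · exact key b hbE hbu h2'
    · exact key (a * b) (mul_mem haE hbE)
        (by rw [show (3643 : ℕ) = 1025 ^^^ 2618 from rfl, R.φ_xor, hau, hbu]; rfl)
        (h1'.mul_right h2')
  have hcase : ∀ (c : G) (hc : c ∈ E) (v : ℕ), R.φ v = QuotientGroup.mk (⟨c, hc⟩ : E) →
      d.ρ h (R.φ v) = R.φ v → (h : G) * c * (h : G)⁻¹ = c ∨ (h : G) * c * (h : G)⁻¹ = c * z := by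
    intro c hc v hcv hfix
    rw [hcv, d.ρ_mk] at hfix
    exact (d.mk_eq_iff).1 hfix.symm
  have hconj : ∀ u c : G, u * (h : G) * c * (u * h)⁻¹ = u * ((h : G) * c * (h : G)⁻¹) * u⁻¹ :=
    fun u c => by group
  have hcz : ∀ x ∈ E, ∀ c : G, x * (c * z) * x⁻¹ = x * c * x⁻¹ * z := fun x hx c => by
    conv_rhs => rw [← hzc x hx]
    group
  have hzz : ∀ c : G, c * z * z = c := fun c => by rw [mul_assoc, d.L.zz, mul_one]
  rcases hcase a haE 1025 hau ha with e1 | e1 <;> rcases hcase b hbE 2618 hbu hb with e2 | e2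
  · exact ⟨1, one_mem E, hmain _ (mul_mem (one_mem _) h.2) (by simpa using e1) (by simpa using e2)⟩
  · exact ⟨r, hrE, hmain _ (mul_mem (d.L.le_H hrE) h.2) (by rw [hconj, e1, r2 k3])
      (by rw [hconj, e2, hcz r hrE, r3 k4, hzz])⟩
  · exact ⟨p, hpE, hmain _ (mul_mem (d.L.le_H hpE) h.2) (by rw [hconj, e1, hcz p hpE, p1 k1, hzz])
      (by rw [hconj, e2, p4 k2])⟩
  · have hq : p * r ∈ E := mul_mem hpE hrE
    have hq' : ∀ c : G, p * r * c * (p * r)⁻¹ = p * (r * c * r⁻¹) * p⁻¹ := fun c => by group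
    exact ⟨p * r, hq, hmain _ (mul_mem (d.L.le_H hq) h.2)
      (by rw [hconj, e1, hcz _ hq, hq', r2 k3, p1 k1, hzz])
      (by rw [hconj, e2, hcz _ hq, hq', r3 k4, hcz p hpE, p4 k2, hzz])⟩

/-- The image in the automorphisms of `E / Z(E)` of the centralizer of the line. -/
theorem ρ_image (o : Outer z E P N e) :
    ((CZ R).subgroupOf (centralizer ({z} : Set G))).map d.ρ = stabY R := by
  have hY : ∀ j, d.ρ (R.g j) ∈ Outer.Y d := fun j =>
    H82.J4Cx.genY_le R (subset_closure ⟨j, rfl⟩)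
  obtain ⟨hw, hne, m1, m2⟩ := wline_ok
  set w := d.ρ (R.g 3) with hwdef
  have hwv : ∀ v, w (R.φ v) = R.φ (ap mW v) := fun v => by
    rw [hwdef, R.apply, R.mat_letter]
    rfl
  refine le_antisymm ?_ ?_
  · rintro _ ⟨⟨x, hxH⟩, hx, rfl⟩
    have h1 := ρ_fix R (mem_subgroupOf.1 hx) m1
    refine ⟨?_, h1⟩
    rcases Outer.dichotomy o d ⟨x, hxH⟩ with h | h
    · exact h
    exfalso
    have h2 := ρ_fix R (mem_subgroupOf.1 hx) m2
    set y := d.ρ (⟨x, hxH⟩ : ↥(centralizer ({z} : Set G)))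
    have h3 : y * w * y⁻¹ = w * w := h (R.g 3) R.memP
    have h4 : y * w = w * w * y := mul_inv_eq_iff_eq_mul.1 h3
    have h5 := DFunLike.congr_fun h4 (R.φ 1025)
    simp only [MulAut.mul_apply] at h5
    change y (R.φ 1025) = R.φ 1025 at h1
    rw [h1, hwv, hw, hwv] at h5
    change y (R.φ 2618) = R.φ 2618 at h2
    rw [h2] at h5
    exact hne (R.φ_inj (by norm_num) (by
      have h6 := code_lt R (d.ρ (R.g 3)) 2618
      rwa [R.mat_letter] at h6) h5).symm
  · rintro _ ⟨⟨c, hc, rfl⟩, hfix⟩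
    have ha : d.ρ c (R.φ 1025) = R.φ 1025 := hfix
    have hb : d.ρ c (R.φ 2618) = R.φ 2618 := by
      have hcomm : d.ρ c * w = w * d.ρ c := by
        rw [hwdef, ← map_mul, ← map_mul]
        exact congrArg d.ρ (Subtype.ext (mem_centralizer_iff.1 (mem_subgroupOf.1 hc) _ R.memP).symm)
      have h5 := DFunLike.congr_fun hcomm (R.φ 1025)
      simp only [MulAut.mul_apply] at h5
      rwa [hwv, hw, ha, hwv, hw] at h5
    obtain ⟨u, hu, hk⟩ := adjust R c ha hb
    refine ⟨⟨u, d.L.le_H hu⟩ * c, mem_subgroupOf.2 hk, ?_⟩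
    rw [map_mul, (d.mem_ker_iff).2 (show ((⟨u, d.L.le_H hu⟩ :
      ↥(centralizer ({z} : Set G))) : G) ∈ E from hu), one_mul]

/-- The action of the centralizer of the line. -/
def ρZ : ↥(CZ R) →* MulAut (Bar E) := d.ρ.comp (Subgroup.inclusion (CZ_le_H R))

theorem range_ρZ (o : Outer z E P N e) : (ρZ R).range = stabY R := by
  rw [← ρ_image R o]
  ext y
  constructor
  · rintro ⟨x, rfl⟩
    exact ⟨_, mem_subgroupOf.2 x.2, rfl⟩
  · rintro ⟨x, hx, rfl⟩
    exact ⟨⟨x.1, mem_subgroupOf.1 hx⟩, rfl⟩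

theorem mem_ker_ρZ {x : CZ R} : x ∈ (ρZ R).ker ↔ (x : G) ∈ EZ R := by
  rw [MonoidHom.mem_ker]
  show d.ρ _ = 1 ↔ _
  rw [d.mem_ker_iff]
  exact ⟨fun h => ⟨h, x.2⟩, fun h => h.1⟩

theorem card_CZ (S : Setup R e N) : Nat.card (CZ R) = 2 ^ 11 * 1920 := by
  have h := (ρZ R).ker.card_mul_index
  rw [index_ker, range_ρZ R S.out, card_stabY R S.out S.cardC] at h
  rw [← h, ← card_EZ R]
  congr 1
  exact Nat.card_congr
    { toFun := fun x => ⟨x.1.1, (mem_ker_ρZ R).1 x.2⟩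
      invFun := fun x => ⟨⟨x.1, x.2.2⟩, (mem_ker_ρZ R).2 x.2⟩
      left_inv := fun _ => rfl
      right_inv := fun _ => rfl }

/-- The normaliser of the line. -/
abbrev M : Subgroup G := normalizer (lineE R : Set G)

theorem CZ_le_M : CZ R ≤ M R := centralizer_le_normalizer _

variable {J : Subgroup G} {EJ : Subgroup ↥J}

theorem JData.CQ_le_M {R : Real d} (D : JData R J EJ) (S : Setup R e N) :
    centralizer (Q5 R : Set G) ≤ M R := fun x hx => Subgroup.mem_normalizer_fintype fun a ha => by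
  rw [← D.EJ_eq S] at ha ⊢
  exact D.conj_mem_EJ hx ha

theorem JData.mem_J_CZ {R : Real d} (D : JData R J EJ) (S : Setup R e N) (j : J) :
    (j : G) ∈ CZ R ↔ j ∈ EJ := by
  constructor
  · intro h
    refine D.mem_EJ_of_comm S.out fun a ha => Subtype.ext ?_
    exact (mem_centralizer_iff.1 h a (D.EJ_eq S ▸ ⟨a, ha, rfl⟩ : (a : G) ∈ lineE R)).symm
  · intro h
    refine lineE_le_CZ R ?_
    rw [← D.EJ_eq S]
    exact ⟨j, h, rfl⟩

theorem JData.card_CQ_CZ {R : Real d} (D : JData R J EJ) (S : Setup R e N) :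
    Nat.card ↥(centralizer (Q5 R : Set G) ⊓ CZ R) = 40 := by
  have hQZ : ∀ q ∈ Q5 R, q ∈ CZ R := fun q hq => mem_centralizer_iff.2 fun a ha => by
    have haE := (lineE_le_EZ R ha).1
    obtain ⟨j, -, rfl⟩ := (D.EJ_eq S).ge ha
    exact (D.prod.2.2.1 q hq j j.2).symm
  let f : ↥(Q5 R) × ↥EJ → ↥(centralizer (Q5 R : Set G) ⊓ CZ R) := fun v =>
    ⟨(v.1 : G) * (v.2.1 : G), mul_mem ⟨D.prod.1 v.1.2, hQZ _ v.1.2⟩
      ⟨D.J_le v.2.1.2, (D.mem_J_CZ S v.2.1).2 v.2.2⟩⟩
  have hf : Function.Bijective f := by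
    refine ⟨fun a b h => ?_, fun x => ?_⟩
    · have h' : (a.1 : G) * (a.2.1 : G) = b.1 * (b.2.1 : G) := congrArg Subtype.val h
      have hm : (b.1 : G)⁻¹ * a.1 ∈ Q5 R ⊓ J := by
        refine ⟨(Q5 R).mul_mem ((Q5 R).inv_mem b.1.2) a.1.2, ?_⟩
        rw [show (b.1 : G)⁻¹ * a.1 = (b.1 : G)⁻¹ * (a.1 * a.2.1) * (a.2.1 : G)⁻¹ by group, h',
          inv_mul_cancel_left]
        exact J.mul_mem b.2.1.2 (J.inv_mem a.2.1.2)
      rw [D.prod.2.2.2.1, mem_bot, inv_mul_eq_one] at hm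
      exact Prod.ext (Subtype.ext hm.symm)
        (Subtype.ext (Subtype.ext (mul_left_cancel (hm ▸ h'))))
    · obtain ⟨q, hq, j, hj, hx⟩ := D.exists_mul x.2.1
      have hj' : j ∈ CZ R := by
        have hh := mul_mem (inv_mem (hQZ q hq)) x.2.2
        rwa [hx, inv_mul_cancel_left] at hh
      exact ⟨(⟨q, hq⟩, ⟨⟨j, hj⟩, (D.mem_J_CZ S ⟨j, hj⟩).1 hj'⟩), Subtype.ext hx.symm⟩
  rw [← Nat.card_congr (Equiv.ofBijective f hf), Nat.card_prod, Q5, card_zpowers_q5, D.card8]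

theorem card_aut_line : Nat.card (MulAut ↥(lineE R)) ∣ 168 := by
  letI : CommGroup ↥(lineE R) := { (inferInstance : Group ↥(lineE R)) with
    mul_comm := fun a b => Subtype.ext
      (mem_centralizer_iff.1 (lineE_le_CZ R b.2) a a.2) }
  exact H5.Eight.card_mulAut_dvd (fun a => Subtype.ext (lineE_sq R a.2)) (card_lineE R)

/-- The normaliser of the line is the product of the centralizers of the line and of `Q`. -/
theorem JData.M_structure {R : Real d} (D : JData R J EJ) (S : Setup R e N) :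
    Nat.card (M R) = 168 * (2 ^ 11 * 1920) ∧
      ∀ m ∈ M R, ∃ c ∈ centralizer (Q5 R : Set G), c⁻¹ * m ∈ CZ R := by
  let ψ := (lineE R).normalizerMonoidHom
  have hk : ψ.ker = (CZ R).subgroupOf (M R) := Subgroup.normalizerMonoidHom_ker _
  let χ := ψ.comp (Subgroup.inclusion (D.CQ_le_M S))
  have hχk : Nat.card χ.ker = 40 := by
    rw [← D.card_CQ_CZ S]
    exact Nat.card_congr
      { toFun := fun x => ⟨x.1.1, x.1.2, mem_subgroupOf.1
          (hk.le (show Subgroup.inclusion (D.CQ_le_M S) x.1 ∈ ψ.ker from x.2))⟩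
        invFun := fun x => ⟨⟨x.1, x.2.1⟩, show Subgroup.inclusion (D.CQ_le_M S) ⟨x.1, x.2.1⟩ ∈ ψ.ker
          from hk.ge (mem_subgroupOf.2 x.2.2)⟩
        left_inv := fun _ => rfl
        right_inv := fun _ => rfl }
  have hχ : Nat.card χ.range = 168 := by
    have h := χ.ker.card_mul_index
    rw [index_ker, hχk, D.card_CQ] at h
    omega
  haveI : Finite (MulAut ↥(lineE R)) := Nat.finite_of_card_ne_zero fun h0 => by
    have := card_aut_line R
    rw [h0] at this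
    norm_num at this
  have htop : χ.range = ⊤ := Subgroup.eq_top_of_le_card _ (by
    rw [hχ]
    exact Nat.le_of_dvd (by norm_num) (card_aut_line R))
  have hψ : Nat.card ψ.range = 168 := by
    refine le_antisymm ((Subgroup.card_le_card_group _).trans
      (Nat.le_of_dvd (by norm_num) (card_aut_line R))) ?_
    rw [← hχ]
    exact Subgroup.card_le_of_le fun a ha => by
      obtain ⟨c, rfl⟩ := ha
      exact ⟨_, rfl⟩
  refine ⟨?_, fun m hm => ?_⟩
  · rw [← ψ.ker.card_mul_index, index_ker, hψ, hk,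
      Nat.card_congr (subgroupOfEquivOfLe (CZ_le_M R)).toEquiv, card_CZ R S, mul_comm]
  · obtain ⟨c, hc⟩ : ψ ⟨m, hm⟩ ∈ χ.range := htop ▸ mem_top _
    refine ⟨c, c.2, ?_⟩
    have hmk : (Subgroup.inclusion (D.CQ_le_M S) c)⁻¹ * ⟨m, hm⟩ ∈ ψ.ker := by
      rw [MonoidHom.mem_ker, map_mul, map_inv, inv_mul_eq_one]
      exact hc
    rw [hk] at hmk
    exact mem_subgroupOf.1 hmk

end H11.J4Pent
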