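import Cfsg.Agent.H95.J4Five.Cert
import Cfsg.Agent.H11.J4Pent.Data

/-!
Kernel checks for the two-local subgroup of shape `2^(3+12).(S5 x L3(2))`.
-/

set_option autoImplicit false
set_option maxRecDepth 100000
set_option Elab.async false

namespace H11.J4Pent

open Cfsg.Agent.H69.J4 H88.J4Fusion H95.J4Five

/-- The form on vectors, as a boolean. -/
def bF (u v : ℕ) : Bool := xor (qMask.testBit (u ^^^ v)) (xor (qMask.testBit u) (qMask.testBit v))

/-- Grow a set of vectors along a tree. -/
def grow : ℕ → List (ℕ × ℕ × ℕ) → Option ℕ
  | m, [] => some m
  | m, (v, p, j) :: l => bif m.testBit p && Nat.beq (ap (letter j) p) v then grow (m ||| 2 ^ v) l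
      else none

/-- Trivial on the perpendicular space modulo the line. -/
def trivB (M : List ℕ) : Bool :=
  (List.range 4096).all fun v => !dMask.testBit v || lineV.contains (ap M v ^^^ v)

/-- The leaves of the tree. -/
def leafB (v : ℕ) : Bool := Nat.beq v 0 || sVec.contains v || Nat.beq v rootN

/-- The mask is constant along the edges of the tree. -/
theorem qMask_step : ((List.range 4096).all fun v =>
    ((Nat.blt (ap (letter (stepJ v)) v) 4096) &&
      (qMask.testBit (ap (letter (stepJ v)) v) == qMask.testBit v)) || leafB v) = true := by
  decide +kernel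

theorem qMask_leaf : qMask.testBit 0 = false ∧
    (sVec.all fun v => !qMask.testBit v) = true ∧ qMask.testBit rootN = true := by decide +kernel

theorem depth_lt (v : ℕ) : depthJ v < 16 := by
  unfold depthJ
  omega

theorem qMask_end : ∀ n v, v < 4096 → depthJ v < n →
    leafB (endV n v) = true ∧ qMask.testBit (endV n v) = qMask.testBit v := by
  intro n
  induction n with
  | zero => intro v _ h; omega
  | succ n ih =>
    intro v hv hd
    by_cases hl : leafB v = true
    · have e : endV (n + 1) v = v := by
        change cond (leafB v) v (endV n (ap (letter (stepJ v)) v)) = v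
        rw [hl]
        rfl
      rw [e]
      exact ⟨hl, rfl⟩
    · rw [Bool.not_eq_true] at hl
      have e : endV (n + 1) v = endV n (ap (letter (stepJ v)) v) := by
        change cond (leafB v) v (endV n (ap (letter (stepJ v)) v)) = _
        rw [hl]
        rfl
      have hs := (List.all_eq_true.1 qMask_step) v (List.mem_range.2 hv)
      rw [hl, Bool.or_false, Bool.and_eq_true, beq_iff_eq, Nat.blt_eq] at hs
      have ht := (List.all_eq_true.1 tree_ok) v (List.mem_range.2 hv)
      rw [show (Nat.beq v 0 || sVec.contains v || Nat.beq v rootN) = false from hl,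
        Bool.false_or, Nat.blt_eq] at ht
      rw [e]
      obtain ⟨h1, h2⟩ := ih _ hs.1 (by omega)
      exact ⟨h1, h2.trans hs.2⟩

theorem qMask_ok : ((List.range 4096).all fun v =>
    bif qMask.testBit v then Nat.beq (endV 40 v) rootN
    else (Nat.beq (endV 40 v) 0 || sVec.contains (endV 40 v))) = true := by
  refine List.all_eq_true.2 fun v hv => ?_
  obtain ⟨h1, h2⟩ := qMask_end 40 v (List.mem_range.1 hv) (by have := depth_lt v; omega)
  obtain ⟨h0, hS, -⟩ := qMask_leaf
  rw [← h2]
  unfold leafB at h1
  cases hb : qMask.testBit (endV 40 v) with
  | true =>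
    rw [cond_true]
    simp only [Bool.or_eq_true, List.contains_iff_mem] at h1
    rcases h1 with (h | h) | h
    · rw [Nat.eq_of_beq_eq_true h, h0] at hb
      cases hb
    · have := (List.all_eq_true.1 hS) _ h
      rw [hb] at this
      cases this
    · exact h
  | false =>
    rw [cond_false]
    simp only [Bool.or_eq_true] at h1 ⊢
    rcases h1 with h | h
    · exact h
    · exfalso
      rw [Nat.eq_of_beq_eq_true h, qMask_leaf.2.2] at hb
      cases hb

theorem dMask_ok : ((List.range 4096).all fun v =>
    dMask.testBit v == (!bF v 1025 && !bF v 2618)) = true := by decide +kernel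

theorem dMask_card : ((List.range 4096).filter fun v => dMask.testBit v).length = 1024 := by
  decide +kernel

theorem line_D : (lineV.all fun v => dMask.testBit v && !qMask.testBit v) = true := by decide +kernel

theorem v10_ok : bF v10 1025 = true ∧ bF v10 2618 = false ∧ v10 < 4096 ∧
    bF v01 1025 = false ∧ bF v01 2618 = true ∧ v01 < 4096 := by decide +kernel

theorem pairD_ok : dMask.testBit pairD.1 = true ∧ dMask.testBit pairD.2 = true ∧
    bF pairD.1 pairD.2 = true := by decide +kernel

/-- Only the line is orthogonal to all of the perpendicular space. -/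
theorem perp_ok : ((List.range 4096).all fun u => lineV.contains u ||
    (List.range 4096).any fun v => dMask.testBit v && bF u v) = true := by decide +kernel

theorem wline_ok : ap mW 1025 = 2618 ∧ ap mW 2618 ≠ 2618 ∧
    1025 ∈ lineV ∧ 2618 ∈ lineV := by decide +kernel

theorem oTree_ok : grow (2 ^ 1025) oTree = some oMask := by decide +kernel

theorem oMask_closed : ((List.range 4096).all fun v => !oMask.testBit v ||
    ((List.range 4).all fun j => oMask.testBit (ap (letter j) v))) = true := by decide +kernel

theorem oMask_card : ((List.range 4096).filter fun v => oMask.testBit v).length = 693 := by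
  decide +kernel

theorem kerW_ok : (kerW.all fun w => Nat.beq (ap (evalM w) 1025) 1025 && trivB (evalM w)) = true := by
  decide +kernel

theorem kerW_inj : (kerW.map evalM).Nodup ∧ kerW.length = 16 := by decide +kernel

theorem kerW_faithful : (kerW.all fun w => (evalM w == mI) ||
    (List.range 4096).any fun v => dMask.testBit v && !Nat.beq (ap (evalM w) v) v) = true := by
  decide +kernel

theorem threeW_ok : ap (evalM threeW) 1025 = 1025 ∧
    mm (evalM threeW) (mm (evalM threeW) (evalM threeW)) = mI ∧ (evalM threeW == mI) = false := by
  decide +kernel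

theorem threeW_fix : ((List.range 4096).all fun v => !dMask.testBit v || lineV.contains v ||
    !Nat.beq (ap (evalM threeW) v) v) = true := by decide +kernel

theorem threeW_ker : (kerW.all fun w => (evalM w == mI) ||
    !(mm (evalM w) (evalM threeW) == mm (evalM threeW) (evalM w))) = true := by decide +kernel

end H11.J4Pent
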