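import Cfsg.Agent.H11.J4Pent.Cert
import Cfsg.Agent.H95.J4Five.Inner
import Cfsg.Agent.H69.J4.Form

/-!
The form on the twelve-dimensional quotient in coordinates, and the stabiliser of the vector `1025`.
-/

set_option autoImplicit false
set_option linter.unusedSectionVars false
set_option linter.style.haveILetI false

namespace H11.J4Pent

open Subgroup Cfsg.Agent.H69.J4 H88.J4Fusion H95.J4Five

variable {G : Type*} [Group G] [Finite G]
variable {z : G} {E P N : Subgroup G} {d : Data z E P} (R : Real d)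
  {e : ↥(centralizer ({z} : Set G)) →* MulAut ↥Cfsg.Spor.M22}

theorem code_lt (x : MulAut (Bar E)) (v : ℕ) : ap (R.code x) v < 4096 :=
  ap_lt (n := 12) (R.mat_lt x) v

theorem qv_eq {v : ℕ} (hv : v < 4096) : R.qv v = if qMask.testBit v then 1 else 0 := by
  obtain ⟨h, hh⟩ := exists_end R 40 v
  have hok := (List.all_eq_true.1 qMask_ok) v (List.mem_range.2 hv)
  have key : endV 40 v < 4096 → R.qv v = R.qv (endV 40 v) := fun hlt => by
    rw [R.apply] at hh
    rw [← R.qv_apply h v, R.φ_inj (code_lt R _ v) hlt hh]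
  cases hb : qMask.testBit v with
  | true =>
    rw [hb, cond_true] at hok
    have he := Nat.eq_of_beq_eq_true hok
    rw [key (by rw [he]; decide), he, qv_root R]
    simp
  | false =>
    rw [hb, cond_false, Bool.or_eq_true, List.contains_iff_mem] at hok
    have hs : endV 40 v ∈ sVec := hok.elim
      (fun h0 => by rw [Nat.eq_of_beq_eq_true h0]; decide) id
    rw [key (sVec_bound hs), R.qv_sVec hs]
    simp

theorem quad_eq {x : G} (hx : x ∈ E) {v : ℕ} (hv : v < 4096)
    (h : R.φ v = QuotientGroup.mk (⟨x, hx⟩ : E)) :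
    x * x = 1 ↔ qMask.testBit v = false := by
  classical
  have h1 := qv_eq R hv
  rw [R.qv_mk _ v h] at h1
  simp only [Data.quad] at h1
  cases hb : qMask.testBit v <;> rw [hb] at h1 <;> by_cases hxx : x * x = 1 <;>
    simp [hxx] at h1 ⊢

theorem comm_bF {x y : G} (hx : x ∈ E) (hy : y ∈ E) {u v : ℕ} (hu : u < 4096) (hv : v < 4096)
    (hux : R.φ u = QuotientGroup.mk (⟨x, hx⟩ : E)) (hvy : R.φ v = QuotientGroup.mk (⟨y, hy⟩ : E)) :
    x * y = y * x ↔ bF u v = false := by
  classical
  have h1 := d.quad_mul hy hx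
  rw [← R.qv_mk ⟨y, hy⟩ v hvy, ← R.qv_mk ⟨x, hx⟩ u hux,
    ← R.qv_mk ⟨y * x, mul_mem hy hx⟩ (v ^^^ u) (by rw [R.φ_xor, hux, hvy]; rfl),
    qv_eq R hu, qv_eq R hv, qv_eq R (Nat.xor_lt_two_pow (n := 12) hv hu), Nat.xor_comm v u] at h1
  unfold bF
  simp only [Data.bil] at h1
  cases ha : qMask.testBit (u ^^^ v) <;> cases hb : qMask.testBit u <;> cases hc : qMask.testBit v <;>
    rw [ha, hb, hc] at h1 <;> by_cases hxy : x * y = y * x <;> simp [hxy] at h1 ⊢ <;>
    exact absurd h1 (by decide)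

theorem card_Y (hc : Nat.card (Outer.cP z P) = 6 * 443520) :
    Nat.card (Outer.Y d) = 3 * 443520 := by
  classical
  let f : ↥(Outer.cP z P) →* MulAut (Bar E) := d.ρ.comp (Outer.cP z P).subtype
  have hY : Outer.Y d = f.range := by
    rw [MonoidHom.range_comp, Subgroup.range_subtype]
    rfl
  have hzC : (⟨z, Cfsg.Agent.H9.LargeData.z_mem_H z⟩ : ↥(centralizer ({z} : Set G))) ∈ Outer.cP z P :=
    mem_subgroupOf.2 (mem_centralizer_iff.2 fun p hp =>
      mem_centralizer_singleton_iff.1 (d.hPH hp))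
  have hk : Nat.card f.ker = 2 := by
    rw [show f.ker = zpowers (⟨_, hzC⟩ : Outer.cP z P) from le_antisymm (fun c hc => by
      have hcE : ((c : ↥(centralizer ({z} : Set G))) : G) ∈ E :=
        d.mem_ker_iff.1 (MonoidHom.mem_ker.1 hc)
      rcases d.fixP _ hcE fun p hp => mem_centralizer_iff.1 (mem_subgroupOf.1 c.2) p hp with h | h
      · rw [show c = 1 from Subtype.ext (Subtype.ext h)]
        exact one_mem _
      · rw [show c = ⟨_, hzC⟩ from Subtype.ext (Subtype.ext h)]
        exact mem_zpowers _)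
      (zpowers_le.2 (MonoidHom.mem_ker.2 (d.mem_ker_iff.2 d.L.z_mem))),
      Nat.card_zpowers, Subgroup.orderOf_mk, Subgroup.orderOf_mk, d.L.hz]
  have h := f.ker.card_mul_index
  rw [hk, index_ker, hc] at h
  rw [hY]
  omega

/-- The vectors in a mask. -/
def maskSet (m : ℕ) : Set (Bar E) := R.φ '' {v | v < 4096 ∧ m.testBit v = true}

theorem ncard_maskSet (m : ℕ) :
    (maskSet R m).ncard = ((List.range 4096).filter fun v => m.testBit v).length := by
  classical
  have hinj : Set.InjOn R.φ {v | v < 4096 ∧ m.testBit v = true} := fun a ha b hb e =>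
    R.φ_inj ha.1 hb.1 e
  rw [maskSet, hinj.ncard_image, show {v | v < 4096 ∧ m.testBit v = true} =
      (((List.range 4096).filter fun v => m.testBit v).toFinset : Set ℕ) by ext v; simp,
    Set.ncard_coe_finset, List.toFinset_card_of_nodup (List.nodup_range.filter _)]

theorem grow_sound (hY : ∀ j, d.ρ (R.g j) ∈ Outer.Y d) (a : ℕ) :
    ∀ (l : List (ℕ × ℕ × ℕ)) (m r : ℕ), grow m l = some r →
      (∀ v, m.testBit v = true → v < 4096 ∧ ∃ y ∈ Outer.Y d, y (R.φ a) = R.φ v) →
      ∀ v, r.testBit v = true → v < 4096 ∧ ∃ y ∈ Outer.Y d, y (R.φ a) = R.φ v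
  | [], m, r, h, hm => by
    rw [grow, Option.some.injEq] at h
    exact h ▸ hm
  | (w, p, j) :: l, m, r, h, hm => by
    rw [grow] at h
    cases hb : (m.testBit p && Nat.beq (ap (letter j) p) w) with
    | false => rw [hb] at h; simp at h
    | true =>
      rw [hb, cond_true] at h
      refine grow_sound hY a l _ r h fun v hv => ?_
      rw [Nat.testBit_lor, Bool.or_eq_true, Nat.testBit_two_pow, decide_eq_true_eq] at hv
      rcases hv with hv | rfl
      · exact hm v hv
      · rw [Bool.and_eq_true] at hb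
        obtain ⟨-, y, hy, he⟩ := hm p hb.1
        rw [← Nat.eq_of_beq_eq_true hb.2, ← R.mat_letter j]
        refine ⟨code_lt R _ p, d.ρ (R.g j) * y, mul_mem (hY j) hy, ?_⟩
        rw [MulAut.mul_apply, he, R.apply]

theorem letter_closed {j v : ℕ} (hv : v < 4096) (h : oMask.testBit v = true) :
    oMask.testBit (ap (letter j) v) = true := by
  have hc := (List.all_eq_true.1 oMask_closed) v (List.mem_range.2 hv)
  rw [h, Bool.not_true, Bool.false_or] at hc
  have h4 : ∀ i < 4, oMask.testBit (ap (letter i) v) = true := fun i hi =>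
    (List.all_eq_true.1 hc) i (List.mem_range.2 hi)
  rcases j with _ | _ | _ | j
  · exact h4 0 (by norm_num)
  · exact h4 1 (by norm_num)
  · exact h4 2 (by norm_num)
  · exact h4 3 (by norm_num)

/-- The stabiliser of the vector `1025` in `Y`. -/
def stabY : Subgroup (MulAut (Bar E)) :=
  Outer.Y d ⊓ MulAction.stabilizer (MulAut (Bar E)) (R.φ 1025)

theorem card_stabY (o : Outer z E P N e) (hc : Nat.card (Outer.cP z P) = 6 * 443520) :
    Nat.card (stabY R) = 1920 := by
  classical
  haveI := R.finite_aut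
  have hY : ∀ j, d.ρ (R.g j) ∈ Outer.Y d := fun j =>
    H82.J4Cx.genY_le R (subset_closure ⟨j, rfl⟩)
  have hup := grow_sound R hY 1025 oTree _ _ oTree_ok fun v hv => by
    rw [Nat.testBit_two_pow, decide_eq_true_eq] at hv
    subst hv
    exact ⟨by norm_num, 1, one_mem _, rfl⟩
  set S := maskSet R oMask with hS
  let K : Subgroup (MulAut (Bar E)) :=
    { carrier := {y | ∀ m, y m ∈ S ↔ m ∈ S}
      one_mem' := fun m => Iff.rfl
      mul_mem' := fun {a b} ha hb m => (ha (b m)).trans (hb m)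
      inv_mem' := fun {a} ha m => by rw [← ha (a⁻¹ m), MulAut.apply_inv_self] }
  have hgen : H82.J4Cx.genY R ≤ K := by
    refine (closure_le _).2 ?_
    rintro _ ⟨j, rfl⟩ m
    have hmaps : (fun m => d.ρ (R.g j) m) '' S ⊆ S := by
      rintro _ ⟨_, ⟨v, hv, rfl⟩, rfl⟩
      exact ⟨ap (letter j) v, ⟨R.mat_letter j ▸ code_lt R _ v,
        letter_closed hv.1 hv.2⟩, show R.φ _ = d.ρ (R.g j) (R.φ v) by rw [R.apply, R.mat_letter]⟩
    have heq := Set.eq_of_subset_of_ncard_le hmaps
      (le_of_eq (Set.ncard_image_of_injective _ (d.ρ (R.g j)).injective).symm) (Set.toFinite _)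
    constructor
    · intro hm
      obtain ⟨m', hm', he⟩ := heq.ge hm
      rwa [← (d.ρ (R.g j)).injective he]
    · exact fun hm => hmaps ⟨m, hm, rfl⟩
  rw [H82.J4Cx.genY_eq R o] at hgen
  have h1025 : R.φ 1025 ∈ S := ⟨1025, ⟨by norm_num, by decide +kernel⟩, rfl⟩
  have horb : MulAction.orbit (Outer.Y d) (R.φ 1025) = S := by
    refine Set.Subset.antisymm ?_ ?_
    · rintro _ ⟨y, rfl⟩
      exact (hgen y.2 (R.φ 1025)).2 h1025
    · rintro _ ⟨v, hv, rfl⟩
      obtain ⟨-, y, hy, he⟩ := hup v hv.2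
      exact ⟨⟨y, hy⟩, he⟩
  have h := (MulAction.stabilizer (Outer.Y d) (R.φ 1025)).card_mul_index
  rw [MulAction.index_stabilizer, horb, hS, ncard_maskSet, oMask_card, card_Y hc] at h
  have he : Nat.card (stabY R) = Nat.card (MulAction.stabilizer (Outer.Y d) (R.φ 1025)) :=
    Nat.card_congr
      { toFun := fun x => ⟨⟨x.1, x.2.1⟩, x.2.2⟩
        invFun := fun x => ⟨x.1.1, x.1.2, x.2⟩
        left_inv := fun _ => rfl
        right_inv := fun _ => rfl }
  omega

end H11.J4Pent
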