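import Cfsg.Agent.H11.J4Pent.Form
import Cfsg.Agent.H11.J4Seven.Small
import Cfsg.Agent.H11.J4Seven.TSide
import Cfsg.Agent.H74.J4Five.Five
import Cfsg.Agent.H47.G23.Elem
import Cfsg.Prelude.Def_TwoFusion

/-!
The elementary subgroup of order eight in the centralizer of an element of order five.
-/

set_option autoImplicit false
set_option linter.unusedSectionVars false
set_option linter.style.haveILetI false

namespace H11.J4Pent

open Subgroup Cfsg.Agent.H69.J4 H88.J4Fusion H95.J4Five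

abbrev SL32 : Type := Matrix.SpecialLinearGroup (Fin 3) (ZMod 2)

variable {G : Type*} [Group G] [Finite G]

/-- The local structure at the prime five. -/
def BoxQ (z : G) : Prop :=
  ∀ Q : Subgroup G, Nat.card ↥Q = 5 → Q ≤ centralizer ({z} : Set G) →
    ¬ (25 ∣ Nat.card G) ∧
    (∃ J : Subgroup G, Cfsg.IsInternalDirectProduct Q J (centralizer (Q : Set G)) ∧
      ∃ (E : Subgroup ↥J) (_ : E.Normal), Cfsg.IsElementaryAbelian 2 E ∧ Nat.card ↥E = 8 ∧
        Nonempty (↥J ⧸ E ≃* SL32) ∧ ∀ K : Subgroup ↥J, ¬ E.IsComplement' K) ∧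
    (∃ R : Subgroup G, Q ≤ R ∧ R ≤ normalizer (Q : Set G) ∧ Nat.card ↥R = 20 ∧
      R ⊓ centralizer (Q : Set G) = Q) ∧
    Nat.card ↥(normalizer (Q : Set G)) = 2 ^ 8 * 3 * 5 * 7

variable {z : G} {E P N : Subgroup G} {d : Data z E P} (R : Real d)
  {e : ↥(centralizer ({z} : Set G)) →* MulAut ↥Cfsg.Spor.M22}

/-- The standing hypotheses. -/
structure Setup (e : ↥(centralizer ({z} : Set G)) →* MulAut ↥Cfsg.Spor.M22) (N : Subgroup G) :
    Prop where
  simple : IsSimpleGroup G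
  notComm : ¬ IsMulCommutative G
  out : Outer z E P N e
  cardC : Nat.card (Outer.cP z P) = 6 * 443520
  h1771 : Nat.card (zO R) = 1771
  box : BoxQ z

/-- The element of order five generates. -/
def Q5 : Subgroup G := zpowers (q5 R : G)

theorem Q5_le : Q5 R ≤ centralizer ({z} : Set G) := zpowers_le.2 (q5 R).2

theorem z_mem_CQ : z ∈ centralizer (Q5 R : Set G) :=
  (mem_cent_iff R).2 (mem_centralizer_singleton_iff.1 (q5 R).2)

/-- The complement of `Q` in its centralizer, with its elementary subgroup. -/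
structure JData (J : Subgroup G) (EJ : Subgroup ↥J) : Prop where
  prod : Cfsg.IsInternalDirectProduct (Q5 R) J (centralizer (Q5 R : Set G))
  normal : EJ.Normal
  elem : Cfsg.IsElementaryAbelian 2 EJ
  card8 : Nat.card EJ = 8
  iso : ∃ f : ↥J →* SL32, Function.Surjective f ∧ f.ker = EJ
  nonsplit : ∀ K : Subgroup ↥J, ¬ EJ.IsComplement' K

theorem exists_jdata (hB : BoxQ z) : ∃ J EJ, JData R J EJ := by
  obtain ⟨-, ⟨J, hp, EJ, hn, he, h8, ⟨i⟩, hs⟩, -, -⟩ := hB (Q5 R) (card_zpowers_q5 R) (Q5_le R)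
  haveI := hn
  refine ⟨J, EJ, hp, hn, he, h8, ⟨i.toMonoidHom.comp (QuotientGroup.mk' EJ),
    i.surjective.comp (QuotientGroup.mk'_surjective _), ?_⟩, hs⟩
  rw [← MonoidHom.comap_ker, (MonoidHom.ker_eq_bot_iff _).2 i.injective, MonoidHom.comap_bot,
    QuotientGroup.ker_mk']

variable {J : Subgroup G} {EJ : Subgroup ↥J}

namespace JData

variable {R} (D : JData R J EJ)
include D

theorem J_le : J ≤ centralizer (Q5 R : Set G) := D.prod.2.1

theorem exists_mul {x : G} (hx : x ∈ centralizer (Q5 R : Set G)) :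
    ∃ q ∈ Q5 R, ∃ j ∈ J, x = q * j := by
  have h : x ∈ Q5 R ⊔ J := D.prod.2.2.2.2.symm ▸ hx
  have hn : Q5 R ≤ normalizer (J : Set G) := fun q hq => mem_normalizer_iff.2 fun j => by
    constructor
    · intro hj
      rwa [D.prod.2.2.1 q hq j hj, mul_inv_cancel_right]
    · intro hj
      have h := D.prod.2.2.1 q hq _ hj
      rw [show j = q⁻¹ * (q * j * q⁻¹) * q by group, mul_assoc, ← h, inv_mul_cancel_left]
      exact hj
  rw [← SetLike.mem_coe, Subgroup.coe_mul_of_left_le_normalizer_right _ _ hn] at h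
  obtain ⟨q, hq, j, hj, rfl⟩ := h
  exact ⟨q, hq, j, hj, rfl⟩

theorem card_J : Nat.card J = 1344 := by
  obtain ⟨f, hf, hk⟩ := D.iso
  have h := f.ker.card_mul_index
  rw [index_ker, MonoidHom.range_eq_top.2 hf, card_top, hk, D.card8, H47.G23.card_sl32] at h
  omega

theorem card_CQ : Nat.card ↥(centralizer (Q5 R : Set G)) = 6720 := by
  let f : ↥(Q5 R) × ↥J → ↥(centralizer (Q5 R : Set G)) := fun v =>
    ⟨v.1 * v.2, mul_mem (D.prod.1 v.1.2) (D.J_le v.2.2)⟩
  have hf : Function.Bijective f := by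
    refine ⟨fun a b h => ?_, fun x => ?_⟩
    · have h' : (a.1 : G) * a.2 = b.1 * b.2 := congrArg Subtype.val h
      have hm : (b.1 : G)⁻¹ * a.1 ∈ Q5 R ⊓ J := by
        refine ⟨(Q5 R).mul_mem ((Q5 R).inv_mem b.1.2) a.1.2, ?_⟩
        rw [show (b.1 : G)⁻¹ * a.1 = (b.1 : G)⁻¹ * (a.1 * a.2) * (a.2 : G)⁻¹ by group, h',
          inv_mul_cancel_left]
        exact J.mul_mem b.2.2 (J.inv_mem a.2.2)
      rw [D.prod.2.2.2.1, mem_bot, inv_mul_eq_one] at hm
      exact Prod.ext (Subtype.ext hm.symm) (Subtype.ext (mul_left_cancel (hm ▸ h')))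
    · obtain ⟨q, hq, j, hj, hx⟩ := D.exists_mul x.2
      exact ⟨(⟨q, hq⟩, ⟨j, hj⟩), Subtype.ext hx.symm⟩
  rw [← Nat.card_congr (Equiv.ofBijective f hf), Nat.card_prod, D.card_J, Q5, card_zpowers_q5]

/-- An element whose order is a power of two lies in `J`. -/
theorem mem_J_of_two {x : G} (hx : x ∈ centralizer (Q5 R : Set G)) {k : ℕ}
    (hk : x ^ 2 ^ k = 1) : x ∈ J := by
  obtain ⟨q, hq, j, hj, rfl⟩ := D.exists_mul hx
  have hc : Commute q j := D.prod.2.2.1 q hq j hj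
  rw [hc.mul_pow] at hk
  have hm : q ^ 2 ^ k ∈ Q5 R ⊓ J :=
    ⟨(Q5 R).pow_mem hq _, eq_inv_of_mul_eq_one_left hk ▸ J.inv_mem (J.pow_mem hj _)⟩
  rw [D.prod.2.2.2.1, mem_bot] at hm
  have hd : orderOf q ∣ 5 := card_zpowers_q5 R ▸ (Q5 R).orderOf_dvd_natCard hq
  rw [orderOf_eq_one_iff.1 (Nat.eq_one_of_dvd_coprimes
    ((Nat.coprime_primes Nat.prime_two (by norm_num : Nat.Prime 5)).2 (by norm_num) |>.pow_left k)
    (orderOf_dvd_of_pow_eq_one hm) hd), one_mul]
  exact hj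

theorem z_mem_J : z ∈ J := D.mem_J_of_two (z_mem_CQ R) (k := 1) (by rw [pow_one, sq, d.L.zz])

/-- The elementary subgroup, in `G`. -/
theorem conj_mem_EJ {x a : G} (hx : x ∈ centralizer (Q5 R : Set G)) (ha : a ∈ EJ.map J.subtype) :
    x * a * x⁻¹ ∈ EJ.map J.subtype := by
  obtain ⟨q, hq, j, hj, rfl⟩ := D.exists_mul hx
  obtain ⟨a, ha', rfl⟩ := ha
  have hc : q * (j * a * j⁻¹) = (j * a * j⁻¹) * q :=
    D.prod.2.2.1 q hq _ (mul_mem (mul_mem hj a.2) (inv_mem hj))
  refine ⟨⟨j, hj⟩ * a * ⟨j, hj⟩⁻¹, D.normal.conj_mem a ha' _, ?_⟩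
  show j * (a : G) * j⁻¹ = q * j * a * (q * j)⁻¹
  rw [show q * j * (a : G) * (q * j)⁻¹ = q * (j * a * j⁻¹) * q⁻¹ by group, hc,
    mul_inv_cancel_right]

theorem card_CJz (o : Outer z E P N e) :
    Nat.card (centralizer ({(⟨z, D.z_mem_J⟩ : J)} : Set J)) = 192 := by
  have h960 := card_centH R o H74.J4Five.card_cent_five
  let f : ↥(Q5 R) × ↥(centralizer ({(⟨z, D.z_mem_J⟩ : J)} : Set J)) → ↥(centH R) := fun v =>
    ⟨⟨(v.1 : G) * (v.2.1 : G), mul_mem (Q5_le R v.1.2) (mem_centralizer_singleton_iff.2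
        (congrArg Subtype.val (mem_centralizer_singleton_iff.1 v.2.2)))⟩,
      (mem_centH R).2 ((mem_cent_iff R).1 (mul_mem (D.prod.1 v.1.2) (D.J_le v.2.1.2)))⟩
  have hf : Function.Bijective f := by
    refine ⟨fun a b h => ?_, fun x => ?_⟩
    · have h' : (a.1 : G) * (a.2.1 : G) = b.1 * (b.2.1 : G) :=
        congrArg (fun c : centH R => ((c.1 : centralizer ({z} : Set G)) : G)) h
      have hm : (b.1 : G)⁻¹ * a.1 ∈ Q5 R ⊓ J := by
        refine ⟨(Q5 R).mul_mem ((Q5 R).inv_mem b.1.2) a.1.2, ?_⟩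
        rw [show (b.1 : G)⁻¹ * a.1 = (b.1 : G)⁻¹ * (a.1 * a.2.1) * (a.2.1 : G)⁻¹ by group, h',
          inv_mul_cancel_left]
        exact J.mul_mem b.2.1.2 (J.inv_mem a.2.1.2)
      rw [D.prod.2.2.2.1, mem_bot, inv_mul_eq_one] at hm
      exact Prod.ext (Subtype.ext hm.symm) (Subtype.ext (Subtype.ext (mul_left_cancel (hm ▸ h'))))
    · obtain ⟨q, hq, j, hj, hx⟩ := D.exists_mul ((mem_cent_iff R).2 ((mem_centH R).1 x.2))
      have hjz : j * z = z * j := by
        have h1 := mem_centralizer_singleton_iff.1 x.1.2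
        have h2 := mem_centralizer_singleton_iff.1 (Q5_le R hq)
        rw [show ((x.1 : ↥(centralizer ({z} : Set G))) : G) = q * j from hx] at h1
        refine mul_left_cancel (a := q) ?_
        rw [← mul_assoc, h1, ← mul_assoc, ← h2, mul_assoc]
      exact ⟨(⟨q, hq⟩, ⟨⟨j, hj⟩, mem_centralizer_singleton_iff.2 (Subtype.ext hjz)⟩),
        Subtype.ext (Subtype.ext hx.symm)⟩
  have h := Nat.card_congr (Equiv.ofBijective f hf)
  rw [Nat.card_prod, Q5, card_zpowers_q5, h960] at h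
  omega

theorem z_mem_EJ (o : Outer z E P N e) : (⟨z, D.z_mem_J⟩ : J) ∈ EJ := by
  haveI : Fact (Nat.Prime 3) := ⟨Nat.prime_three⟩
  obtain ⟨f, hf, hk⟩ := D.iso
  set zJ : J := ⟨z, D.z_mem_J⟩
  rw [← hk, MonoidHom.mem_ker]
  by_contra hne
  set C := centralizer ({zJ} : Set J) with hC
  have h3 : 3 ∣ Nat.card C := by rw [D.card_CJz o]; norm_num
  obtain ⟨⟨y, hy⟩, hyo⟩ := exists_prime_orderOf_dvd_card' 3 h3
  rw [Subgroup.orderOf_mk] at hyo
  have hy3 : y * y * y = 1 := by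
    have h := pow_orderOf_eq_one y
    rw [hyo] at h
    simpa [pow_succ, pow_zero, mul_assoc] using h
  have hzz : f zJ * f zJ = 1 := by
    rw [← map_mul, show zJ * zJ = 1 from Subtype.ext d.L.zz, map_one]
  have h1 := H11.J4Seven.no6_sl3 (f zJ) hzz hne (f y) (by rw [← map_mul, ← map_mul, hy3, map_one])
    (by rw [← map_mul, ← map_mul, mem_centralizer_singleton_iff.1 hy])
  have h8 : orderOf y ∣ 8 := D.card8 ▸ EJ.orderOf_dvd_natCard (hk ▸ MonoidHom.mem_ker.2 h1)
  rw [hyo] at h8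
  norm_num at h8

theorem mem_EJ_of_comm (o : Outer z E P N e) {j : J}
    (hj : ∀ a ∈ EJ, j * a = a * j) : j ∈ EJ := by
  haveI := D.normal
  obtain ⟨f, hf, hk⟩ := D.iso
  let A : Subgroup J := centralizer (EJ : Set J)
  haveI : A.Normal := inferInstance
  have hEA : EJ ≤ A := fun a ha => mem_centralizer_iff.2 fun b hb =>
    congrArg Subtype.val (D.elem.1.1.1 ⟨b, hb⟩ ⟨a, ha⟩)
  haveI := H47.G23.simple_sl32
  rcases ((inferInstance : A.Normal).map f hf).eq_bot_or_eq_top with h | h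
  · have : f j ∈ A.map f := mem_map_of_mem f (mem_centralizer_iff.2 fun a ha => (hj a ha).symm)
    rw [h, mem_bot] at this
    exact hk ▸ MonoidHom.mem_ker.2 this
  · exfalso
    have hA : A = ⊤ := by
      have h' := congrArg (Subgroup.comap f) h
      rwa [comap_map_eq, hk, sup_eq_left.2 hEA, comap_top] at h'
    have hle : (⊤ : Subgroup J) ≤ centralizer ({(⟨z, D.z_mem_J⟩ : J)} : Set J) := fun x _ =>
      mem_centralizer_singleton_iff.2
        (mem_centralizer_iff.1 (hA ▸ mem_top x : x ∈ A) _ (D.z_mem_EJ o)).symm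
    have hc := Subgroup.card_le_of_le hle
    rw [card_top, D.card_J, D.card_CJz o] at hc
    norm_num at hc

/-- The conjugates of `z` under `J` fill the elementary subgroup. -/
theorem conj_z (o : Outer z E P N e) {a : J} (ha : a ∈ EJ) (ha1 : a ≠ 1) :
    ∃ j : J, (j : G) * z * (j : G)⁻¹ = a := by
  classical
  set zJ : J := ⟨z, D.z_mem_J⟩
  have hsub : MulAction.orbit (ConjAct J) zJ ⊆ (EJ : Set J) \ {1} := by
    rintro _ ⟨g, rfl⟩
    refine ⟨?_, fun h => d.L.z_ne_one ?_⟩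
    · show g • zJ ∈ EJ
      rw [ConjAct.smul_def]
      exact D.normal.conj_mem zJ (D.z_mem_EJ o) _
    · rw [Set.mem_singleton_iff] at h
      change g • zJ = 1 at h
      rw [ConjAct.smul_def, conj_eq_one_iff] at h
      exact congrArg Subtype.val h
  have hc : (MulAction.orbit (ConjAct J) zJ).ncard = 7 := by
    have h := (MulAction.stabilizer (ConjAct J) zJ).card_mul_index
    rw [MulAction.index_stabilizer, show Nat.card (ConjAct J) = 1344 from D.card_J] at h
    have hs : Nat.card (MulAction.stabilizer (ConjAct J) zJ) = 192 := by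
      rw [← D.card_CJz o]
      refine Nat.card_congr (ConjAct.ofConjAct.toEquiv.subtypeEquiv fun g => ?_)
      rw [MulAction.mem_stabilizer_iff, ConjAct.smul_def, mem_centralizer_singleton_iff,
        mul_inv_eq_iff_eq_mul]
      rfl
    rw [hs] at h
    omega
  have heq := Set.eq_of_subset_of_ncard_le hsub (by
    rw [hc, Set.ncard_sdiff (by simp [one_mem]), Set.ncard_singleton, ← Nat.card_coe_set_eq]
    show Nat.card EJ - 1 ≤ 7
    rw [D.card8]) (Set.toFinite _)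
  obtain ⟨g, hg⟩ := heq.ge ⟨ha, ha1⟩
  refine ⟨ConjAct.ofConjAct g, ?_⟩
  rw [← hg]
  show _ = ((g • zJ : J) : G)
  rw [ConjAct.smul_def]
  rfl

theorem EJ_eq (S : Setup R e N) : EJ.map J.subtype = lineE R := by
  classical
  haveI := S.simple
  have o := S.out
  have hfix : ∀ a : J, a ∈ EJ → (a : G) ∈ fixE R := by
    intro a ha
    have haz : (a : G) * z = z * a := congrArg Subtype.val
      (congrArg Subtype.val (D.elem.1.1.1 ⟨a, ha⟩ ⟨_, D.z_mem_EJ o⟩))
    have haq : (q5 R : G) * a = a * q5 R := (mem_cent_iff R).1 (D.J_le a.2)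
    have hsq : (a : G) * a = 1 := by
      have := congrArg Subtype.val (D.elem.2 a ha)
      simpa [sq] using this
    set aH : ↥(centralizer ({z} : Set G)) := ⟨a, mem_centralizer_singleton_iff.2 haz⟩
    have hY : d.ρ aH ∈ Outer.Y d := by
      rcases Outer.dichotomy o d aH with h | h
      · exact h
      exfalso
      obtain ⟨p, hp, hp1, hp3, -⟩ := Outer.exists_gen d
      set pH : ↥(centralizer ({z} : Set G)) := ⟨p, d.hPH hp⟩ with hpH
      have hpC : p ∈ centralizer (Q5 R : Set G) := (mem_cent_iff R).2 (q5_comm_P R hp).symm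
      obtain ⟨c, hc, hce⟩ := mul_mem (inv_mem (show (a : G) ∈ EJ.map J.subtype from ⟨a, ha, rfl⟩))
        (D.conj_mem_EJ hpC ⟨a, ha, rfl⟩)
      have hcsq : (c : G) * c = 1 := by
        have := congrArg Subtype.val (D.elem.2 c hc)
        simpa [sq] using this
      have hinv : (a : G)⁻¹ = a := inv_eq_of_mul_eq_one_right hsq
      change (c : G) = (a : G)⁻¹ * (p * (a : G) * p⁻¹) at hce
      have hcH : (c : G) ∈ centralizer ({z} : Set G) := hce ▸
        mul_mem (inv_mem aH.2) (mul_mem (mul_mem pH.2 aH.2) (inv_mem pH.2))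
      have hw := h p hp
      have e1 : d.ρ ⟨c, hcH⟩ = d.ρ pH * d.ρ pH * (d.ρ pH)⁻¹ := by
        rw [show (⟨(c : G), hcH⟩ : ↥(centralizer ({z} : Set G))) = aH * pH * aH⁻¹ * pH⁻¹ from
          Subtype.ext (by show (c : G) = a * p * (a : G)⁻¹ * p⁻¹; rw [hce, hinv]; group),
          map_mul, map_mul, map_mul, map_inv, map_inv, hw]
      rw [mul_inv_cancel_right] at e1
      have e2 : d.ρ ⟨c, hcH⟩ * d.ρ ⟨c, hcH⟩ = 1 := by
        rw [← map_mul, show (⟨(c : G), hcH⟩ : ↥(centralizer ({z} : Set G))) * ⟨c, hcH⟩ = 1 from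
          Subtype.ext hcsq, map_one]
      rw [e1] at e2
      have e3 : d.ρ pH * d.ρ pH * d.ρ pH = 1 := by
        rw [← map_mul, ← map_mul, show pH * pH * pH = 1 from Subtype.ext hp3, map_one]
      rw [← sq] at e2
      have e4 : d.ρ pH = 1 := by
        rw [← sq, ← pow_succ] at e3
        rw [pow_succ, e2, one_mul] at e3
        exact e3
      obtain ⟨v, hv⟩ := QuotientGroup.mk_surjective (R.φ 1025)
      have hpE : p ∈ E := (d.mem_ker_iff (h := pH)).1 e4
      have h2 : orderOf p ∣ 2 ^ 13 := d.cardE ▸ E.orderOf_dvd_natCard hpE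
      rw [orderOf_eq_prime (p := 3) (by simpa [pow_succ, mul_assoc] using hp3) hp1] at h2
      norm_num at h2
    have hI : e aH ∈ Cfsg.Inn ↥Cfsg.Spor.M22 := by
      obtain ⟨c, hc, hca⟩ := hY
      rw [← o.map_cP d]
      refine ⟨c, hc, ?_⟩
      have h1 : e (c⁻¹ * aH) = 1 := (o.e_one_iff d).2 (o.hEN ((d.mem_ker_iff).1 (by
        rw [map_mul, map_inv, hca, inv_mul_cancel])))
      rwa [map_mul, map_inv, inv_mul_eq_one] at h1
    have hE : (a : G) ∈ E :=
      innerH_sq R o H74.J4Five.card_cent_five_inn (x := aH) ⟨(mem_centH R).2 haq, hI⟩ hsq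
    exact mem_inf.2 ⟨hE, (mem_cent_iff R).2 haq⟩
  refine Subgroup.eq_of_le_of_card_ge ?_ (by
    rw [card_lineE, card_map_of_injective J.subtype_injective, D.card8])
  rintro _ ⟨a, ha, rfl⟩
  refine (mem_lineE R S.notComm o S.h1771).2 ⟨hfix a ha, ?_⟩
  by_cases ha1 : a = 1
  · exact Or.inl (by rw [ha1]; rfl)
  · obtain ⟨j, hj⟩ := D.conj_z o ha ha1
    exact Or.inr (isConj_iff.2 ⟨j, hj⟩)

/-- A normal two-subgroup of `C(Q)` lies in the elementary subgroup. -/
theorem normal_two_le {A : Subgroup G} (hA : A ≤ centralizer (Q5 R : Set G))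
    (hn : ∀ x ∈ J, ∀ a ∈ A, x * a * x⁻¹ ∈ A) (hp : IsPGroup 2 A) :
    A ≤ EJ.map J.subtype := by
  haveI : Fact (Nat.Prime 2) := ⟨Nat.prime_two⟩
  intro a ha
  have haJ : a ∈ J := by
    obtain ⟨k, hk⟩ := hp ⟨a, ha⟩
    exact D.mem_J_of_two (hA ha) (congrArg Subtype.val hk)
  obtain ⟨f, hf, hk⟩ := D.iso
  set A' := A.subgroupOf J with hA'
  haveI : A'.Normal := ⟨fun b hb g => mem_subgroupOf.2 (hn g g.2 b (mem_subgroupOf.1 hb))⟩
  haveI := H47.G23.simple_sl32
  rcases ((inferInstance : A'.Normal).map f hf).eq_bot_or_eq_top with h | h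
  · have h1 : f ⟨a, haJ⟩ ∈ A'.map f := mem_map_of_mem f (mem_subgroupOf.2 ha)
    rw [h, mem_bot] at h1
    exact ⟨_, hk ▸ MonoidHom.mem_ker.2 h1, rfl⟩
  · exfalso
    have hp' : IsPGroup 2 (A'.map f) :=
      ((hp.to_le (inf_le_left : A ⊓ J ≤ A)).of_equiv
        ((MulEquiv.subgroupCongr (subgroupOf_map_subtype A J).symm).trans
          (A'.equivMapOfInjective J.subtype J.subtype_injective).symm)).map f
    obtain ⟨n, hn2⟩ := IsPGroup.iff_card.1 hp'
    rw [h, card_top, H47.G23.card_sl32] at hn2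
    have h7 : (7 : ℕ) ∣ 2 ^ n := hn2 ▸ (by norm_num)
    have := Nat.Prime.dvd_of_dvd_pow (by norm_num : Nat.Prime 7) h7
    norm_num at this

end JData

end H11.J4Pent
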