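import Cfsg.Agent.H11.J4Pent.Sl3

/-!
The two-local subgroup of shape `2^(3+12).(S5 x L3(2))` of a group of Janko-four type.
-/

set_option autoImplicit false
set_option linter.unusedSectionVars false
set_option linter.style.haveILetI false

namespace H11.J4Pent

open Subgroup Cfsg.Agent.H69.J4 H88.J4Fusion H95.J4Five

variable {G : Type*} [Group G] [Finite G] [IsSimpleGroup G] {z : G} {P : Subgroup G}

theorem card_zO {E : Subgroup G} {d : Data z E P} (R : Real d) (B : H11.J4Seven.Boxes z) :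
    Nat.card (zO R) = 1771 := by
  obtain ⟨z', t, hz', ht, ht1, hzz, htz, h1, h2, -⟩ := B.orb R.V0 R.V0_elementary R.card_V0
  have hz1 : z' ≠ 1 := fun h => by
    obtain ⟨g, hg⟩ := isConj_iff.1 hzz
    rw [h] at hg
    exact d.L.z_ne_one (conj_eq_one_iff.1 hg)
  have hcov := H11.J4Seven.cover R.card_V0 hz' ht hzz htz ht1 hz1 h1 h2
  rw [Nat.card_coe_set_eq, ← h1]
  congr 1
  refine Set.Subset.antisymm ?_ ?_
  · rintro v ⟨hv, g, hg⟩
    have hv1 : v ≠ 1 := fun h => d.L.z_ne_one (conj_eq_one_iff.1 (hg.trans h))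
    rcases hcov.ge ⟨hv, hv1⟩ with h | ⟨n, -, hn⟩
    · exact h
    · exact absurd ((isConj_iff.2 ⟨g, hg⟩).trans (isConj_iff.2 ⟨n, hn⟩).symm) htz
  · rintro v ⟨n, hn, rfl⟩
    obtain ⟨g, hg⟩ := isConj_iff.1 (hzz.trans (isConj_iff.2 ⟨n, rfl⟩ : IsConj z' (n * z' * n⁻¹)))
    exact ⟨(mem_normalizer_iff.1 hn z').1 hz', g, hg⟩

theorem card_cP {E : Subgroup G} {d : Data z E P} (_ : Real d)
    (hJ : Cfsg.IsOfJankoFourTypeWith z P) : Nat.card (Outer.cP z P) = 6 * 443520 := by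
  rw [← H42.J4.card_cent hJ]
  exact Nat.card_congr
    { toFun := fun c => ⟨c.1.1, c.1.2, mem_subgroupOf.1 c.2⟩
      invFun := fun c => ⟨⟨c.1, c.2.1⟩, mem_subgroupOf.2 c.2.2⟩
      left_inv := fun _ => rfl
      right_inv := fun _ => rfl }

/-- The statement about the normaliser of the special group of order `2 ^ 15`. -/
theorem pent_statement (hG : ¬ IsMulCommutative G) (hJ : Cfsg.IsOfJankoFourTypeWith z P)
    (B : H11.J4Seven.Boxes z) (hBQ : BoxQ z) :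
    ∃ L : Subgroup G, Cfsg.IsSpecial 2 ↥L ∧ Nat.card ↥L = 2 ^ 15 ∧
      Nat.card ↥(center ↥L) = 8 ∧
      Nonempty (↥(normalizer (L : Set G)) ⧸ L.subgroupOf (normalizer (L : Set G)) ≃* S5 × SL32) ∧
      (∀ K : Subgroup ↥(normalizer (L : Set G)),
        ¬ (L.subgroupOf (normalizer (L : Set G))).IsComplement' K) ∧
      (∃ K₁ : Subgroup G, K₁ ≤ normalizer (L : Set G) ∧ Nonempty (↥K₁ ≃* S5)) ∧
      (∃ K₂ : Subgroup G, K₂ ≤ normalizer (L : Set G) ∧ Nonempty (↥K₂ ≃* SL32)) ∧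
      (∃ Q : Sylow 5 G, normalizer ((Q : Subgroup G) : Set G) ≤ normalizer (L : Set G)) ∧
      (∃ S : Sylow 7 G, normalizer ((S : Subgroup G) : Set G) ≤ normalizer (L : Set G)) := by
  classical
  haveI : Fact (Nat.Prime 5) := ⟨by norm_num⟩
  haveI : Fact (Nat.Prime 7) := ⟨by norm_num⟩
  have d : Data z (Cfsg.twoCoreOfCentralizer z) P := data_of_type hJ
  obtain ⟨N, e, o⟩ := outer_of_type hJ
  obtain ⟨R⟩ := exists_real o d
  have S : Setup R e N := ⟨inferInstance, hG, o, card_cP R hJ, card_zO R B, hBQ⟩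
  obtain ⟨J, EJ, D⟩ := exists_jdata R hBQ
  obtain ⟨s, hs, hsJ, -, hsz⟩ := D.exists_seven S
  obtain ⟨h49, h7⟩ := seven_data hG hJ B
  obtain ⟨I, F⟩ := h7 s hs
  obtain ⟨hNS, hIZ⟩ := D.seven_local S F h49 hs hsJ hsz
  have hI : IHyp R I := ⟨hIZ, F.iso⟩
  have C : Core R e N J EJ s I := ⟨D, S, hs, hsJ, hsz, hI, F.le, hNS⟩
  have h25 : ¬ 25 ∣ Nat.card G := (hBQ (Q5 R) (card_zpowers_q5 R) (Q5_le R)).1
  have hfac : ∀ {p : ℕ} [hp : Fact p.Prime] (A : Subgroup G), Nat.card A = p →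
      ¬ p * p ∣ Nat.card G → (Nat.card G).factorization p = 1 := by
    intro p hp A hA hpp
    have h1 : p ∣ Nat.card G := hA ▸ card_subgroup_dvd_card A
    have h2 := Nat.Prime.factorization_pos_of_dvd hp.out Nat.card_pos.ne' h1
    by_contra h
    refine hpp ?_
    rw [← pow_two]
    exact (Nat.Prime.pow_dvd_iff_le_factorization hp.out Nat.card_pos.ne').2 (by omega)
  refine ⟨Tri R, C.special, hI.card_Tri S, C.centre_card, C.quotient_iso, C.no_complement,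
    ⟨I, C.normalizer_eq ▸ C.I_le_M, F.iso⟩, C.exists_sl32 hJ, ?_, ?_⟩
  · refine ⟨Sylow.ofCard (Q5 R) ?_, ?_⟩
    · rw [hfac (Q5 R) (card_zpowers_q5 R) h25, pow_one]
      exact card_zpowers_q5 R
    · exact C.normalizer_eq ▸ C.normQ_le
  · refine ⟨Sylow.ofCard (zpowers s) ?_, ?_⟩
    · rw [hfac (zpowers s) (H11.J4Seven.orderOf_gen hs) h49, pow_one, H11.J4Seven.orderOf_gen hs]
    · exact C.normalizer_eq ▸ C.normS

end H11.J4Pent
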