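import Cfsg.Agent.H11.J4Seven.M22Seven
import Cfsg.Agent.H47.G23.Elem

/-!
A subgroup of `M22` of shape `2^3.L3(2)` splits: its action on the twenty-two points.
-/

set_option autoImplicit false
set_option linter.unusedSectionVars false
set_option linter.style.haveILetI false

open Cfsg Subgroup

namespace H11.J4Pent

open H25.M22 (G22 zN)

theorem fix_counts :
    ((List.range 24).filter fun i => Nat.beq (H94.pap zN i) i).length = 8 ∧
    ((List.range 24).filter fun i => Nat.beq (H94.pap H29.M22.seven i) i).length = 3 := by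
  decide +kernel

theorem card_fix_reps {r : ℕ} {g : Equiv.Perm GolayPt} (hR : H94.Reps r g) :
    {p : GolayPt | g p = p}.ncard =
      ((List.range 24).filter fun i => Nat.beq (H94.pap r i) i).length := by
  classical
  set l := (List.range 24).filter fun i => Nat.beq (H94.pap r i) i with hl
  have himg : H94.idxN '' {p : GolayPt | g p = p} = (l.toFinset : Set ℕ) := by
    ext i
    simp only [Set.mem_image, Set.mem_setOf_eq, Finset.mem_coe, List.mem_toFinset, hl,
      List.mem_filter, List.mem_range]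
    constructor
    · rintro ⟨p, hp, rfl⟩
      refine ⟨H94.idxN_lt p, ?_⟩
      rw [hR _ (H94.idxN_lt p), H94.ptN_idxN, hp]
      exact Nat.beq_refl _
    · rintro ⟨hi, hb⟩
      refine ⟨H94.ptN i, ?_, H94.idxN_ptN hi⟩
      apply H94.idxN_injective
      rw [← hR i hi, Nat.eq_of_beq_eq_true hb, H94.idxN_ptN hi]
  rw [← Set.ncard_image_of_injective _ H94.idxN_injective, himg, Set.ncard_coe_finset,
    List.toFinset_card_of_nodup (List.nodup_range.filter _)]

theorem card_fix_conj {X : Type*} (g c : Equiv.Perm X) :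
    {p : X | (c * g * c⁻¹) p = p}.ncard = {p : X | g p = p}.ncard := by
  rw [← Set.ncard_image_of_injective {p : X | g p = p} c.injective]
  congr 1
  ext p
  simp only [Set.mem_setOf_eq, Set.mem_image, Equiv.Perm.mul_apply]
  constructor
  · intro h
    refine ⟨c⁻¹ p, c.injective ?_, by simp⟩
    simpa using h
  · rintro ⟨q, hq, rfl⟩
    simp [hq]

theorem fix_invol {t : G22} (h2 : t * t = 1) (h1 : t ≠ 1) :
    {p : GolayPt | t.1 p = p}.ncard = 8 := by
  obtain ⟨z, hz, hzR, -, -⟩ := H29.M22.exists_z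
  obtain ⟨c, hc⟩ := isConj_iff.1 (H25.M22.isConj_inv hz h2 h1)
  rw [← hc, show (c * z * c⁻¹ : G22).1 = c.1 * z.1 * (c.1)⁻¹ from rfl, card_fix_conj,
    card_fix_reps hzR]
  exact fix_counts.1

theorem fix_seven {a : G22} (ha : orderOf a = 7) : {p : GolayPt | a.1 p = p}.ncard = 3 := by
  obtain ⟨hm, -, h1⟩ := H11.J4Seven.seven_rep
  have h7 := H29.M22.seven_ok
  simp only [Bool.and_eq_true] at h7
  obtain ⟨f, hf⟩ := H29.M22.exists_of_mem22B hm
  haveI : Fact (Nat.Prime 7) := ⟨by norm_num⟩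
  have hfo : orderOf f = 7 := orderOf_eq_prime (Subtype.ext (by
    have := (hf.mul (hf.mul (hf.mul (hf.mul (hf.mul (hf.mul hf)))))).eq_of_peq H94.reps_one h7.2
    simpa [pow_succ', mul_assoc] using this)) (fun e => by
      subst e
      rw [hf.peq_of_eq H94.reps_one] at h1
      simp at h1)
  obtain ⟨c, k, hck⟩ := H11.J4Seven.conj_of_seven hfo ha
  obtain ⟨c', k', hck'⟩ := H11.J4Seven.conj_of_seven ha hfo
  have hle : ∀ {u v : G22} {c : G22} {k : ℤ}, c * u * c⁻¹ = v ^ k →
      {p : GolayPt | v.1 p = p}.ncard ≤ {p : GolayPt | u.1 p = p}.ncard := by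
    intro u v c k h
    rw [← card_fix_conj u.1 c.1, show c.1 * u.1 * (c.1)⁻¹ = (c * u * c⁻¹ : G22).1 from rfl, h]
    refine Set.ncard_le_ncard (fun p hp => ?_) (Set.toFinite _)
    show (v ^ k : G22).1 p = p
    rw [SubgroupClass.coe_zpow]
    exact Equiv.Perm.zpow_apply_eq_self_of_apply_eq_self hp k
  have h := le_antisymm (hle hck) (hle hck')
  rw [h, card_fix_reps hf]
  exact fix_counts.2

theorem two_fixed (t : G22) : t.1 none = none ∧ t.1 (some 0) = some 0 :=
  (H29.M22.mem_M22_iff.1 t.2).2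

theorem card_pts : Nat.card GolayPt = 24 := by
  rw [Nat.card_eq_fintype_card]; rfl

theorem orbit_sizes : ∀ n < 23, n ∣ 1344 → n % 7 = 1 → n = 1 ∨ n = 8 := by decide +kernel

variable {U : Type*} [Group U] [Finite U]

/-- Splitting inside `M22`. -/
theorem exists_complement (ι : U →* G22) (hι : Function.Injective ι) (Z : Subgroup U) [Z.Normal]
    (hZ : Nat.card Z = 8) (hZ2 : ∀ a ∈ Z, a * a = 1) (hU : Nat.card U = 1344)
    (hfree : ∀ s : U, orderOf s = 7 → ∀ a ∈ Z, s * a = a * s → a = 1) :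
    ∃ K : Subgroup U, Nat.card K = 168 ∧ K ⊓ Z = ⊥ := by
  classical
  haveI : Fact (Nat.Prime 7) := ⟨by norm_num⟩
  haveI : Fact (Nat.Prime 2) := ⟨Nat.prime_two⟩
  let act : U →* Equiv.Perm GolayPt := (Subgroup.subtype _).comp ι
  letI : MulAction U GolayPt := MulAction.compHom GolayPt act
  have hsmul : ∀ (u : U) (p : GolayPt), u • p = (ι u).1 p := fun _ _ => rfl
  obtain ⟨s, hs⟩ := exists_prime_orderOf_dvd_card' (G := U) 7 (by rw [hU]; norm_num)
  have hσ : orderOf (ι s) = 7 := by rw [orderOf_injective ι hι, hs]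
  set F := {p : GolayPt | (ι s).1 p = p} with hF
  have hF3 : F.ncard = 3 := fix_seven hσ
  obtain ⟨hn0, hz0⟩ := two_fixed (ι s)
  obtain ⟨p, hpF, hp⟩ : ∃ p ∈ F, p ∉ ({none, some 0} : Set GolayPt) := by
    by_contra h
    push Not at h
    have := Set.ncard_le_ncard (show F ⊆ {none, some 0} from fun q hq => h q hq) (Set.toFinite _)
    rw [Set.ncard_pair (by simp)] at this
    omega
  simp only [Set.mem_insert_iff, Set.mem_singleton_iff, not_or] at hp
  have hFeq : F = {none, some 0, p} := by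
    refine (Set.eq_of_subset_of_ncard_le ?_ ?_ (Set.toFinite _)).symm
    · rintro q (rfl | rfl | rfl)
      exacts [hn0, hz0, hpF]
    · rw [hF3, Set.ncard_eq_three.2 ⟨none, some 0, p, by simp, Ne.symm hp.1, Ne.symm hp.2, rfl⟩]
  have hzp : ∀ q : GolayPt, s • q = q → ∀ g ∈ zpowers s, g • q = q := fun q hq g hg =>
    (zpowers_le.2 (show s ∈ MulAction.stabilizer U q from hq)) hg
  -- the orbit of the third fixed point of `s`
  set O := MulAction.orbit U p with hO
  have hOsub : O ⊆ ({none, some 0} : Set GolayPt)ᶜ := by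
    rintro _ ⟨u, rfl⟩ hq
    have hfix : ∀ q : GolayPt, q = none ∨ q = some 0 → u⁻¹ • q = q := by
      rintro q (rfl | rfl)
      · exact (two_fixed (ι u⁻¹)).1
      · exact (two_fixed (ι u⁻¹)).2
    have hq' : u • p = none ∨ u • p = some 0 := hq
    have h := hfix _ hq'
    rw [inv_smul_smul] at h
    rcases hq' with e | e <;> rw [e] at h
    · exact hp.1 h
    · exact hp.2 h
  have hO22 : O.ncard ≤ 22 := by
    refine (Set.ncard_le_ncard hOsub (Set.toFinite _)).trans ?_
    rw [Set.ncard_compl, Set.ncard_pair (by simp), card_pts]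
  have hOdvd : O.ncard ∣ 1344 := by
    rw [hO, ← MulAction.index_stabilizer, ← hU]
    exact index_dvd_card _
  have hmod : ∀ A : Set GolayPt, (∀ g ∈ zpowers s, ∀ q ∈ A, g • q ∈ A) →
      A.ncard % 7 = (A ∩ F).ncard % 7 := by
    intro A hA
    letI : MulAction ↥(zpowers s) ↥A :=
      { smul := fun g q => ⟨(g : U) • (q : GolayPt), hA g g.2 q q.2⟩
        one_smul := fun q => Subtype.ext (one_smul U (q : GolayPt))
        mul_smul := fun g g' q => Subtype.ext (mul_smul (g : U) (g' : U) (q : GolayPt)) }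
    have hp7 : IsPGroup 7 ↥(zpowers s) := IsPGroup.of_card (n := 1) (by
      rw [Nat.card_zpowers, hs, pow_one])
    have h := hp7.card_modEq_card_fixedPoints ↥A
    rw [Nat.ModEq, Nat.card_coe_set_eq] at h
    rw [h, Nat.card_coe_set_eq, ← Set.ncard_image_of_injective _ Subtype.val_injective]
    congr 2
    ext q
    constructor
    · rintro ⟨⟨q, hq⟩, hfix, rfl⟩
      exact ⟨hq, congrArg Subtype.val (hfix ⟨s, mem_zpowers s⟩)⟩
    · rintro ⟨hq, hqF⟩
      exact ⟨⟨q, hq⟩, fun g => Subtype.ext (hzp q hqF g g.2), rfl⟩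
  have hO1 : O.ncard % 7 = 1 := by
    rw [hmod O fun g _ q hq => by
      obtain ⟨u, rfl⟩ := hq
      exact ⟨g * u, mul_smul g u p⟩, show O ∩ F = {p} from ?_, Set.ncard_singleton]
    refine Set.Subset.antisymm ?_ (Set.singleton_subset_iff.2 ⟨MulAction.mem_orbit_self p, hpF⟩)
    rintro q ⟨hqO, hqF⟩
    rw [hFeq] at hqF
    rcases hqF with rfl | rfl | rfl
    · exact absurd (by simp) (hOsub hqO)
    · exact absurd (by simp) (hOsub hqO)
    · exact rfl
  -- common fixed points of `Z`
  haveI : Nontrivial Z := Finite.one_lt_card_iff_nontrivial.1 (by rw [hZ]; norm_num)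
  obtain ⟨⟨a, ha⟩, ha1⟩ := exists_ne (1 : Z)
  have hιa : ι a ≠ 1 := fun h => ha1 (Subtype.ext ((map_eq_one_iff ι hι).1 h))
  set FZ := {q : GolayPt | ∀ b ∈ Z, b • q = q} with hFZ
  have hFZ8 : FZ.ncard ≤ 8 := by
    rw [← fix_invol (t := ι a) (by rw [← map_mul, hZ2 a ha, map_one]) hιa]
    exact Set.ncard_le_ncard (fun q hq => hq a ha) (Set.toFinite _)
  have hFZeven : FZ.ncard % 2 = 0 := by
    have hp2 : IsPGroup 2 ↥Z := IsPGroup.of_card (n := 3) (by rw [hZ]; rfl)
    have h := hp2.card_modEq_card_fixedPoints GolayPt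
    rw [Nat.ModEq, card_pts, Nat.card_coe_set_eq] at h
    have e : MulAction.fixedPoints ↥Z GolayPt = FZ := by
      ext q
      exact ⟨fun h b hb => h ⟨b, hb⟩, fun h b => h b.1 b.2⟩
    rw [e] at h
    omega
  have hFZinv : ∀ g : U, ∀ q ∈ FZ, g • q ∈ FZ := by
    intro g q hq b hb
    have h := hq _ ((inferInstance : Z.Normal).conj_mem b hb g⁻¹)
    rw [inv_inv] at h
    conv_rhs => rw [← h]
    rw [← mul_smul, ← mul_smul]
    congr 1
    group
  set T := MulAction.stabilizer U p with hT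
  have hTi : T.index = O.ncard := MulAction.index_stabilizer U p
  have hnotZ : ¬ Z ≤ T := by
    intro hle
    have hpFZ : p ∈ FZ := fun b hb => hle hb
    have hsub : ({none, some 0} : Set GolayPt) ∪ O ⊆ FZ := by
      rintro q (hq | hq)
      · rcases hq with rfl | rfl
        · exact fun b _ => (two_fixed (ι b)).1
        · exact fun b _ => (two_fixed (ι b)).2
      · obtain ⟨u, rfl⟩ := hq
        exact hFZinv u p hpFZ
    have hc := Set.ncard_le_ncard hsub (Set.toFinite _)
    rw [Set.ncard_union_eq (Set.disjoint_left.2 fun q hq hqO => hOsub hqO hq) (Set.toFinite _)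
      (Set.toFinite _), Set.ncard_pair (by simp)] at hc
    have hFsub : FZ ∩ F = F := Set.inter_eq_right.2 (by
      rw [hFeq]
      rintro q (rfl | rfl | rfl)
      exacts [hsub (Or.inl (by simp)), hsub (Or.inl (by simp)), hpFZ])
    have h7 := hmod FZ fun g _ q hq => hFZinv g q hq
    rw [hFsub, hF3] at h7
    omega
  have h8 : O.ncard = 8 := by
    refine (orbit_sizes _ (by omega) hOdvd hO1).resolve_left fun h1 => hnotZ ?_
    have : T = ⊤ := index_eq_one.1 (hTi.trans h1)
    rw [this]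
    exact le_top
  have hT168 : Nat.card T = 168 := by
    have h := T.card_mul_index
    rw [hTi, h8, hU] at h
    omega
  refine ⟨T, hT168, ?_⟩
  -- `T` meets `Z` trivially
  have hTs : s ∈ T := hpF
  set A := T ⊓ Z with hA
  letI : MulAction ↥(zpowers s) ↥A :=
    { smul := fun g b => ⟨(g : U) * b * (g : U)⁻¹, mem_inf.2
        ⟨mul_mem (mul_mem (zpowers_le.2 hTs g.2) (mem_inf.1 b.2).1)
          (inv_mem (zpowers_le.2 hTs g.2)),
        (inferInstance : Z.Normal).conj_mem _ (mem_inf.1 b.2).2 _⟩⟩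
      one_smul := fun b => Subtype.ext (show (1 : U) * b * (1 : U)⁻¹ = b by group)
      mul_smul := fun g g' b => Subtype.ext (show ((g : U) * g') * b * ((g : U) * g')⁻¹ =
        g * (g' * b * (g' : U)⁻¹) * (g : U)⁻¹ by group) }
  have hp7 : IsPGroup 7 ↥(zpowers s) := IsPGroup.of_card (n := 1) (by
    rw [Nat.card_zpowers, hs, pow_one])
  have h := hp7.card_modEq_card_fixedPoints ↥A
  have e : MulAction.fixedPoints ↥(zpowers s) ↥A = {1} := by
    ext b
    constructor
    · intro hb
      have hb' : s * (b : U) * s⁻¹ = b := congrArg Subtype.val (hb ⟨s, mem_zpowers s⟩)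
      exact Subtype.ext (hfree s hs _ (mem_inf.1 b.2).2 (mul_inv_eq_iff_eq_mul.1 hb'))
    · rintro rfl g
      exact Subtype.ext (show (g : U) * 1 * (g : U)⁻¹ = 1 by group)
  rw [e, Nat.card_coe_set_eq, Set.ncard_singleton, Nat.ModEq] at h
  have hd : Nat.card A ∣ 8 := hZ ▸ card_dvd_of_le inf_le_right
  by_contra hne
  have hle : Nat.card A ≤ 8 := Nat.le_of_dvd (by norm_num) hd
  have h1 : 1 < Nat.card A := (one_lt_card_iff_ne_bot A).2 hne
  have h8' : Nat.card A = 8 := by omega
  exact hnotZ (inf_eq_right.1 (Subgroup.eq_of_le_of_card_ge inf_le_right (by rw [hZ, ← hA, h8'])))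

end H11.J4Pent
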