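import Cfsg.Agent.H11.J4Pent.CentZ
import Cfsg.Agent.H11.J4Seven.Main

/-!
The element of order seven of `J`: its centralizer and normaliser lie in the normaliser of the line,
and the complement in its centralizer centralises the line.
-/

set_option autoImplicit false
set_option linter.unusedSectionVars false
set_option linter.style.haveILetI false
set_option maxRecDepth 20000

namespace H11.J4Pent

open Subgroup Cfsg.Agent.H69.J4 H88.J4Fusion H95.J4Five

abbrev S5 : Type := Equiv.Perm (Fin 5)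

theorem no_fifteen : ∀ p : S5, p ^ 5 = 1 → p ≠ 1 → ∀ q : S5, q ^ 3 = 1 → q ≠ 1 →
    ∀ i < 5, q * p ≠ p ^ i * q := by decide +kernel

theorem invol_triple : ∀ x : S5, x * x = 1 → x ≠ 1 →
    ∃ g : S5, (x * (g * x * g⁻¹)) ^ 3 = 1 ∧ x * (g * x * g⁻¹) ≠ 1 := by decide +kernel

theorem div_numbers : ∀ k ∈ Nat.divisors 120, 5 ∣ k → 3 * k ∣ 2 ^ 21 * 45 →
    (2 ^ 21 * 45 / (3 * k)) % 7 = 1 → k = 15 ∨ k = 120 := by decide +kernel

theorem div_J : ∀ c ∈ Nat.divisors 168, 7 ∣ c → (1344 / c) % 7 = 1 → 3 ∣ c := by decide +kernel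

theorem no21_matrix : ∀ A : Matrix (Fin 3) (Fin 3) (ZMod 2), A * A * A = 1 → A ≠ 1 →
    ∀ B : Matrix (Fin 3) (Fin 3) (ZMod 2), A * B = B * A → B * B * B * B * B * B * B = 1 → B = 1 := by
  classical
  intro A hA hA1 B hAB hB
  have hB7 : B ^ 7 = 1 := by
    simp only [pow_succ, pow_zero, one_mul]
    exact hB
  have hA3 : A ^ 3 = 1 := by
    simp only [pow_succ, pow_zero, one_mul]
    exact hA
  by_contra hB1
  obtain ⟨v, hv⟩ : ∃ v, Matrix.mulVec B v ≠ v := by
    by_contra! h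
    exact hB1 (Matrix.ext_of_mulVec_single fun i => by rw [h, Matrix.one_mulVec])
  let f : Fin 7 → {w : Fin 3 → ZMod 2 // w ≠ 0} := fun i =>
    ⟨Matrix.mulVec (B ^ (i : ℕ)) v, fun h0 => hv (by
      have h := congrArg (Matrix.mulVec (B ^ (7 - (i : ℕ)))) h0
      rw [Matrix.mulVec_mulVec, ← pow_add, show 7 - (i : ℕ) + i = 7 by omega, hB7,
        Matrix.one_mulVec, Matrix.mulVec_zero] at h
      rw [h, Matrix.mulVec_zero])⟩
  have hper : ∀ d : ℕ, d % 7 ≠ 0 → Matrix.mulVec (B ^ d) v ≠ v := by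
    intro d hd h
    have hk : ∀ k : ℕ, Matrix.mulVec (B ^ (d * k)) v = v := by
      intro k
      induction k with
      | zero => simp
      | succ k ih => rw [Nat.mul_succ, pow_add, ← Matrix.mulVec_mulVec, h, ih]
    obtain ⟨k, hk7⟩ : ∃ k : ℕ, d * k % 7 = 1 := by
      have key : ∀ r < 7, r ≠ 0 → ∃ k < 7, r * k % 7 = 1 := by decide
      obtain ⟨k, -, hk⟩ := key (d % 7) (Nat.mod_lt _ (by norm_num)) hd
      exact ⟨k, by rw [Nat.mul_mod]; rw [Nat.mul_mod, Nat.mod_mod] at hk; exact hk⟩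
    apply hv
    have h1 := hk k
    rwa [← Nat.div_add_mod (d * k) 7, hk7, pow_add, pow_mul, hB7, one_pow, one_mul, pow_one] at h1
  have hle : ∀ i j : Fin 7, i < j → f i ≠ f j := by
    intro i j hij h
    have h2 := congrArg (Matrix.mulVec (B ^ (7 - (i : ℕ)))) (congrArg Subtype.val h)
    simp only [f, Matrix.mulVec_mulVec, ← pow_add] at h2
    rw [show 7 - (i : ℕ) + i = 7 by omega, hB7, Matrix.one_mulVec,
      show 7 - (i : ℕ) + j = 7 + ((j : ℕ) - i) by omega, pow_add, hB7, one_mul] at h2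
    exact hper ((j : ℕ) - i) (by have := j.2; omega) h2.symm
  have hinj : Function.Injective f := fun i j h => by
    rcases lt_trichotomy i j with h' | h' | h'
    · exact absurd h (hle i j h')
    · exact h'
    · exact absurd h.symm (hle j i h')
  have hcard : Fintype.card {w : Fin 3 → ZMod 2 // w ≠ 0} = 7 := by
    simp [Fintype.card_subtype_compl]
  have hbij : Function.Surjective f := ((Fintype.bijective_iff_injective_and_card f).2
    ⟨hinj, by rw [Fintype.card_fin, hcard]⟩).2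
  have hv0 : v ≠ 0 := fun h => hv (by rw [h, Matrix.mulVec_zero])
  have hAv : Matrix.mulVec A v ≠ 0 := fun h => hv0 (by
    have h' := congrArg (Matrix.mulVec (A * A)) h
    rwa [Matrix.mulVec_mulVec, Matrix.mulVec_zero, hA, Matrix.one_mulVec] at h')
  obtain ⟨i, hi⟩ := hbij ⟨_, hAv⟩
  have hi' : Matrix.mulVec (B ^ (i : ℕ)) v = Matrix.mulVec A v := congrArg Subtype.val hi
  have hc : ∀ j : ℕ, A * B ^ j = B ^ j * A := fun j => (Commute.pow_right hAB j).eq
  have heq : A = B ^ (i : ℕ) := Matrix.ext_of_mulVec_single fun k => by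
    by_cases hw : (Pi.single k 1 : Fin 3 → ZMod 2) = 0
    · rw [hw, Matrix.mulVec_zero, Matrix.mulVec_zero]
    obtain ⟨j, hj⟩ := hbij ⟨_, hw⟩
    have hj' : Matrix.mulVec (B ^ (j : ℕ)) v = Pi.single k 1 := congrArg Subtype.val hj
    rw [← hj', Matrix.mulVec_mulVec, Matrix.mulVec_mulVec, hc, ← Matrix.mulVec_mulVec, ← hi',
      Matrix.mulVec_mulVec, ← pow_add, ← pow_add, add_comm]
  refine hA1 ?_
  have h7 : A ^ 7 = 1 := by rw [heq, ← pow_mul, mul_comm, pow_mul, hB7, one_pow]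
  rwa [show (7 : ℕ) = 3 * 2 + 1 from rfl, pow_succ, pow_mul, hA3, one_pow, one_mul] at h7

theorem no_sub_fifteen (K : Subgroup S5) : Nat.card K ≠ 15 := by
  intro h
  haveI : Fact (Nat.Prime 5) := ⟨by norm_num⟩
  haveI : Fact (Nat.Prime 3) := ⟨Nat.prime_three⟩
  obtain ⟨⟨p, hpK⟩, hp⟩ := exists_prime_orderOf_dvd_card' (G := K) 5 (by rw [h]; norm_num)
  obtain ⟨⟨q, hqK⟩, hq⟩ := exists_prime_orderOf_dvd_card' (G := K) 3 (by rw [h]; norm_num)
  rw [Subgroup.orderOf_mk] at hp hq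
  have hle : zpowers p ≤ K := zpowers_le.2 hpK
  have hc : Nat.card ((zpowers p).subgroupOf K) = 5 := by
    rw [Nat.card_congr (subgroupOfEquivOfLe hle).toEquiv, Nat.card_zpowers, hp]
  have hfac : (Nat.card K).factorization 5 = 1 := by
    rw [h, show (15 : ℕ) = 5 * 3 from rfl, Nat.factorization_mul (by norm_num) (by norm_num),
      Nat.Prime.factorization (by norm_num), Nat.Prime.factorization (by norm_num)]
    simp
  let Q : Sylow 5 K := Sylow.ofCard _ (hc.trans (by rw [hfac, pow_one]))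
  have hone : Nat.card (Sylow 5 K) = 1 := by
    have h1 := card_sylow_modEq_one 5 K
    have h2 : Nat.card (Sylow 5 K) ∣ 3 := by
      have hQi := (Q : Subgroup K).card_mul_index
      have hQc : Nat.card (Q : Subgroup K) = 5 := hc
      rw [hQc, h] at hQi
      have := Q.card_dvd_index
      rwa [show (Q : Subgroup K).index = 3 by omega] at this
    rcases (Nat.dvd_prime Nat.prime_three).1 h2 with h3 | h3
    · exact h3
    · rw [h3] at h1
      exact absurd h1 (by decide)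
  haveI : Subsingleton (Sylow 5 K) := (Nat.card_eq_one_iff_unique.1 hone).1
  have hfix : (⟨q, hqK⟩ : K) • Q = Q := Subsingleton.elim _ _
  have hmem : q * p * q⁻¹ ∈ zpowers p := by
    have h1 : (⟨q, hqK⟩ : K) * ⟨p, hpK⟩ * (⟨q, hqK⟩ : K)⁻¹ ∈
        (((⟨q, hqK⟩ : K) • Q : Sylow 5 K) : Subgroup K) := by
      rw [Sylow.coe_subgroup_smul]
      exact ⟨⟨p, hpK⟩, mem_subgroupOf.2 (mem_zpowers p), by simp⟩
    rw [hfix] at h1
    exact mem_subgroupOf.1 (show (⟨q, hqK⟩ : K) * ⟨p, hpK⟩ * (⟨q, hqK⟩ : K)⁻¹ ∈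
      (zpowers p).subgroupOf K from h1)
  rw [← mem_powers_iff_mem_zpowers, Submonoid.mem_powers_iff] at hmem
  obtain ⟨i, hi⟩ := hmem
  refine no_fifteen p (by have := pow_orderOf_eq_one p; rwa [hp] at this) (fun e => by simp [e] at hp) q
    (by have := pow_orderOf_eq_one q; rwa [hq] at this) (fun e => by simp [e] at hq) (i % 5) (Nat.mod_lt _ (by norm_num)) ?_
  rw [show p ^ (i % 5) = p ^ i by have := pow_mod_orderOf p i; rwa [hp] at this, hi, inv_mul_cancel_right]

theorem no_normal_two (A : Subgroup S5) [hn : A.Normal] (hp : IsPGroup 2 A) : A = ⊥ := by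
  haveI : Fact (Nat.Prime 2) := ⟨Nat.prime_two⟩
  by_contra hne
  haveI : Nontrivial A := (Subgroup.nontrivial_iff_ne_bot A).2 hne
  obtain ⟨n, hn2⟩ := IsPGroup.iff_card.1 hp
  have h1 : 1 < Nat.card A := Finite.one_lt_card
  have h2 : 2 ∣ Nat.card A := by
    rcases Nat.eq_zero_or_pos n with rfl | hpos
    · rw [hn2] at h1; simp at h1
    · rw [hn2]; exact dvd_pow_self 2 hpos.ne'
  obtain ⟨⟨x, hx⟩, hxo⟩ := exists_prime_orderOf_dvd_card' 2 h2
  rw [Subgroup.orderOf_mk] at hxo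
  obtain ⟨g, h3, hne1⟩ := invol_triple x (by rw [← sq, ← hxo, pow_orderOf_eq_one])
    (fun e => by simp [e] at hxo)
  have hmem : x * (g * x * g⁻¹) ∈ A := A.mul_mem hx (hn.conj_mem x hx g)
  obtain ⟨k, hk⟩ := hp ⟨_, hmem⟩
  exact hne1 (orderOf_eq_one_iff.1 (Nat.eq_one_of_dvd_coprimes
    ((Nat.coprime_primes Nat.prime_two Nat.prime_three).2 (by norm_num) |>.pow_left k)
    (orderOf_dvd_of_pow_eq_one (congrArg Subtype.val hk)) (orderOf_dvd_of_pow_eq_one h3)))

variable {G : Type*} [Group G] [Finite G]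

/-- The facts at an element of order seven. -/
structure SevenData (s : G) (I : Subgroup G) : Prop where
  le : I ≤ centralizer ({s} : Set G)
  inf : zpowers s ⊓ I = ⊥
  exists_mul : ∀ x ∈ centralizer ({s} : Set G), ∃ i ∈ I, x * i⁻¹ ∈ zpowers s
  iso : Nonempty (↥I ≃* S5)
  norm : Nat.card ↥(normalizer (zpowers s : Set G)) =
    3 * Nat.card ↥(centralizer ({s} : Set G))
  card : Nat.card ↥(centralizer ({s} : Set G)) = 840

theorem card_map_conj (A : Subgroup G) (g : G) :
    Nat.card ↥(A.map (MulAut.conj g).toMonoidHom) = Nat.card A :=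
  card_map_of_injective (MulAut.conj g).injective

theorem seven_data [IsSimpleGroup G] {z : G} {P : Subgroup G} (hG : ¬ IsMulCommutative G)
    (hJ : Cfsg.IsOfJankoFourTypeWith z P) (B : H11.J4Seven.Boxes z) :
    ¬ (49 ∣ Nat.card G) ∧ ∀ s : G, orderOf s = 7 → ∃ I, SevenData s I := by
  classical
  haveI : Fact (Nat.Prime 7) := ⟨by norm_num⟩
  have h7 : 7 ∣ Nat.card ↥(centralizer ({z} : Set G)) := by
    rw [H11.J4Seven.card_H hJ]; norm_num
  obtain ⟨⟨s0, hs0z⟩, hs0⟩ := exists_prime_orderOf_dvd_card' 7 h7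
  rw [Subgroup.orderOf_mk] at hs0
  obtain ⟨h49, ⟨I, hprod, ⟨φ⟩⟩, hN, hN'⟩ := H11.J4Seven.local_seven hG hJ B (zpowers s0)
    (H11.J4Seven.orderOf_gen hs0) (zpowers_le.2 hs0z)
  refine ⟨h49, fun s hs => ?_⟩
  obtain ⟨g, -, hg⟩ := H11.J4Seven.conj_in (L := (⊤ : Subgroup G)) (by rwa [card_top])
    (H11.J4Seven.orderOf_gen hs0) (H11.J4Seven.orderOf_gen hs) le_top le_top
  set γ := (MulAut.conj g).toMonoidHom with hγ
  have hmem : ∀ {A : Subgroup G} {x : G}, x ∈ A.map γ ↔ g⁻¹ * x * g ∈ A := by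
    intro A x
    rw [mem_map]
    constructor
    · rintro ⟨y, hy, rfl⟩
      simpa [hγ, mul_assoc] using hy
    · exact fun hx => ⟨_, hx, by simp [hγ, mul_assoc]⟩
  have hC : (centralizer (zpowers s0 : Set G)).map γ = centralizer (zpowers s : Set G) := by
    ext x
    rw [← hg, hmem, mem_centralizer_iff, mem_centralizer_iff]
    constructor
    · intro h y hy
      have h' := h _ (hmem.1 hy)
      calc y * x = g * (g⁻¹ * y * g * (g⁻¹ * x * g)) * g⁻¹ := by group
        _ = g * (g⁻¹ * x * g * (g⁻¹ * y * g)) * g⁻¹ := by rw [h']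
        _ = x * y := by group
    · intro h y hy
      have h' := h _ (hmem.2 (by simpa [mul_assoc] using hy : g⁻¹ * (g * y * g⁻¹) * g ∈ zpowers s0))
      calc y * (g⁻¹ * x * g) = g⁻¹ * (g * y * g⁻¹ * x) * g := by group
        _ = g⁻¹ * (x * (g * y * g⁻¹)) * g := by rw [h']
        _ = _ := by group
  have hNm : (normalizer (zpowers s0 : Set G)).map γ = normalizer (zpowers s : Set G) := by
    rw [hγ, map_equiv_normalizer_eq]
    exact congrArg (fun A : Subgroup G => normalizer (A : Set G)) hg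
  obtain ⟨-, hI, hcomm, hinf, hsup⟩ := hprod
  refine ⟨I.map γ, ?_, ?_, ?_, ⟨(I.equivMapOfInjective γ (MulAut.conj g).injective).symm.trans φ⟩,
    ?_, ?_⟩
  · rw [← H11.J4Seven.cent_zpowers, ← hC]
    exact map_mono hI
  · rw [← hg, ← map_inf _ _ γ (MulAut.conj g).injective, hinf, Subgroup.map_bot]
  · intro x hx
    rw [← H11.J4Seven.cent_zpowers, ← hC, hmem, ← hsup] at hx
    have hn : I ≤ normalizer (zpowers s0 : Set G) :=
      hI.trans (centralizer_le_normalizer _)
    rw [sup_comm, ← SetLike.mem_coe, Subgroup.coe_mul_of_left_le_normalizer_right _ _ hn] at hx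
    obtain ⟨i, hi, c, hc, hxe⟩ := hx
    refine ⟨g * i * g⁻¹, hmem.2 (by simpa [mul_assoc] using hi), ?_⟩
    rw [← hg, hmem]
    have e : g⁻¹ * (x * (g * i * g⁻¹)⁻¹) * g = (g⁻¹ * x * g) * i⁻¹ := by group
    simp only at hxe
    rw [e, ← hxe, ← hcomm c hc i hi]
    simpa using hc
  · rw [← hNm, ← H11.J4Seven.cent_zpowers, ← hC, card_map_conj, card_map_conj]
    exact hN
  · rw [← H11.J4Seven.cent_zpowers, ← hC, card_map_conj]
    omega

variable {z : G} {E P N : Subgroup G} {d : Data z E P} {R : Real d}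
  {e : ↥(centralizer ({z} : Set G)) →* MulAut ↥Cfsg.Spor.M22}
variable {J : Subgroup G} {EJ : Subgroup ↥J}

namespace JData

variable (D : JData R J EJ) (S : Setup R e N)
include D S

theorem exists_seven : ∃ s : G, orderOf s = 7 ∧ s ∈ J ∧ s ∉ CZ R ∧ s * z ≠ z * s := by
  haveI : Fact (Nat.Prime 7) := ⟨by norm_num⟩
  obtain ⟨⟨s, hsJ⟩, hs⟩ := exists_prime_orderOf_dvd_card' (G := J) 7 (by rw [D.card_J]; norm_num)
  have hnz : s * z ≠ z * s := fun h => by
    have hm : (⟨s, hsJ⟩ : J) ∈ centralizer ({(⟨z, D.z_mem_J⟩ : J)} : Set J) :=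
      mem_centralizer_singleton_iff.2 (Subtype.ext h)
    have hd := Subgroup.orderOf_dvd_natCard _ hm
    rw [hs, D.card_CJz S.out] at hd
    norm_num at hd
  rw [Subgroup.orderOf_mk] at hs
  exact ⟨s, hs, hsJ, fun h => hnz (mem_centralizer_iff.1 h z (z_mem_lineE R)).symm, hnz⟩

/-- What commutes with the element of order seven has its seventh power on the line trivial. -/
theorem pow_seven_mem {s x : G} (hs : orderOf s = 7) (hsJ : s ∈ J) (hsz : s * z ≠ z * s)
    (hx : x ∈ M R) (hxs : x * s = s * x) : x ^ 7 ∈ CZ R := by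
  classical
  haveI : Fact (Nat.Prime 7) := ⟨by norm_num⟩
  have hsM : s ∈ M R := D.CQ_le_M S (D.J_le hsJ)
  set f : ℤ → G := fun i => s ^ i * z * (s ^ i)⁻¹ with hf
  have hf0 : f 0 = z := by simp [hf]
  have hfm : ∀ i, f i ∈ lineE R := fun i =>
    (mem_normalizer_iff.1 (zpow_mem hsM i) z).1 (z_mem_lineE R)
  have hfne : ∀ i, f i ≠ 1 := fun i h => d.L.z_ne_one (conj_eq_one_iff.1 h)
  have hsub : Set.range f ⊆ (lineE R : Set G) \ {1} := by
    rintro _ ⟨i, rfl⟩
    exact ⟨hfm i, hfne i⟩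
  have hinj : Function.Injective fun k : Fin 7 => f (k.val : ℤ) := by
    intro a b h
    by_contra hne
    set n : ℤ := (b.val : ℤ) - a.val with hn
    have h' : Commute (s ^ n) z := by
      have e : s ^ n * z * (s ^ n)⁻¹ = z := by
        calc s ^ n * z * (s ^ n)⁻¹ = s ^ (-(a.val : ℤ)) * f b.val * (s ^ (-(a.val : ℤ)))⁻¹ := by
              simp only [hf, hn, zpow_sub, zpow_neg]
              group
          _ = s ^ (-(a.val : ℤ)) * f a.val * (s ^ (-(a.val : ℤ)))⁻¹ := by rw [show f b.val = f a.val from h.symm]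
          _ = z := by simp only [hf, zpow_neg]; group
      exact mul_inv_eq_iff_eq_mul.1 e
    have hn7 : ¬ (7 : ℤ) ∣ n := by
      intro hd
      have ha := a.2
      have hb := b.2
      exact hne (Fin.ext (by omega))
    obtain ⟨u, v, huv⟩ : IsCoprime n (7 : ℤ) := by
      rw [Int.isCoprime_iff_gcd_eq_one]
      have hp : Nat.Coprime n.natAbs 7 := ((Nat.Prime.coprime_iff_not_dvd (by norm_num)).2
        (fun hd => hn7 (Int.natCast_dvd.2 hd))).symm
      exact hp
    have hs1 : s = (s ^ n) ^ u := by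
      have h7 : s ^ (7 : ℤ) = 1 := by rw [show (7 : ℤ) = ((7 : ℕ) : ℤ) from rfl, zpow_natCast, ← hs, pow_orderOf_eq_one]
      rw [← zpow_mul]
      conv_lhs => rw [← zpow_one s, ← huv, zpow_add, mul_comm v, zpow_mul s 7, h7, one_zpow, mul_one]
      rw [mul_comm]
    have h'' := (h'.zpow_left u).eq
    rw [← hs1] at h''
    exact hsz h''
  have hall : ∀ a ∈ lineE R, a ≠ 1 → ∃ i : ℤ, f i = a := by
    intro a ha ha1
    have h7 : (Set.range fun k : Fin 7 => f (k.val : ℤ)).ncard = 7 := by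
      rw [← Nat.card_coe_set_eq, Nat.card_range_of_injective hinj, Nat.card_fin]
    have heq := Set.eq_of_subset_of_ncard_le
      (s := Set.range fun k : Fin 7 => f (k.val : ℤ)) (t := (lineE R : Set G) \ {1})
      (fun y ⟨k, hk⟩ => hsub ⟨_, hk⟩) (by
        rw [h7, Set.ncard_sdiff (by simp [one_mem]), Set.ncard_singleton, ← Nat.card_coe_set_eq]
        show Nat.card (lineE R) - 1 ≤ 7
        rw [card_lineE]) (Set.toFinite _)
    obtain ⟨k, hk⟩ := heq.ge ⟨ha, ha1⟩
    exact ⟨_, hk⟩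
  obtain ⟨i, hi⟩ := hall (x * z * x⁻¹) ((mem_normalizer_iff.1 hx z).1 (z_mem_lineE R))
    fun h => d.L.z_ne_one (conj_eq_one_iff.1 h)
  have hxs' : ∀ j : ℤ, Commute x (s ^ j) := fun j => (show Commute x s from hxs).zpow_right j
  have hstep : ∀ j, x * f j * x⁻¹ = f (i + j) := by
    intro j
    calc x * f j * x⁻¹ = (x * s ^ j) * z * ((s ^ j)⁻¹ * x⁻¹) := by simp only [hf]; group
      _ = (s ^ j * x) * z * (x⁻¹ * (s ^ j)⁻¹) := by
          rw [(hxs' j).eq, ← mul_inv_rev, (hxs' j).eq, mul_inv_rev]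
      _ = s ^ j * (x * z * x⁻¹) * (s ^ j)⁻¹ := by group
      _ = f (i + j) := by rw [← hi]; simp only [hf, add_comm i j, zpow_add]; group
  have hn : ∀ n : ℕ, ∀ j, x ^ n * f j * (x ^ n)⁻¹ = f (n * i + j) := by
    intro n
    induction n with
    | zero => intro j; simp
    | succ n ih =>
      intro j
      calc x ^ (n + 1) * f j * (x ^ (n + 1))⁻¹ = x * (x ^ n * f j * (x ^ n)⁻¹) * x⁻¹ := by
            rw [pow_succ']; group
        _ = f (((n + 1 : ℕ) : ℤ) * i + j) := by
            rw [ih, hstep]; congr 1; push_cast; ring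
  refine mem_centralizer_iff.2 fun a ha => ?_
  by_cases ha1 : a = 1
  · rw [ha1, one_mul, mul_one]
  obtain ⟨j, rfl⟩ := hall a ha ha1
  have h7 : f ((7 : ℕ) * i + j) = f j := by
    simp only [hf, zpow_add, zpow_mul, zpow_natCast]
    rw [← hs, pow_orderOf_eq_one, one_zpow, one_mul]
  have := hn 7 j
  rw [h7] at this
  exact (mul_inv_eq_iff_eq_mul.1 this).symm

/-- Some element of `J` induces an automorphism of order three on the subgroup of order seven. -/
theorem exists_norm {s : G} {I : Subgroup G} (F : SevenData s I) (hs : orderOf s = 7) (hsJ : s ∈ J) :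
    ∃ x ∈ J, x ∈ normalizer (zpowers s : Set G) ∧ x ∉ centralizer ({s} : Set G) := by
  classical
  haveI : Fact (Nat.Prime 3) := ⟨Nat.prime_three⟩
  by_contra hcon
  push Not at hcon
  set C := J ⊓ centralizer ({s} : Set G) with hC
  have heq : J ⊓ normalizer (zpowers s : Set G) = C := le_antisymm
    (fun x hx => ⟨hx.1, hcon x hx.1 hx.2⟩)
    (inf_le_inf_left _ (H11.J4Seven.cent_zpowers s ▸ centralizer_le_normalizer _))
  obtain ⟨m, hm, hcm⟩ := H11.J4Seven.sylow_count hs hsJ (by rw [D.card_J]; norm_num)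
  rw [heq, D.card_J] at hcm
  have h168 : Nat.card C ∣ 168 := by
    have h1 : Nat.card C ∣ 1344 := D.card_J ▸ card_dvd_of_le inf_le_left
    have h2 : Nat.card C ∣ 840 := F.card ▸ card_dvd_of_le inf_le_right
    exact (Nat.dvd_gcd h1 h2).trans (by norm_num)
  have h7 : 7 ∣ Nat.card C := hs ▸ C.orderOf_dvd_natCard ⟨hsJ, mem_centralizer_singleton_iff.2 rfl⟩
  have h3 := div_J _ (Nat.mem_divisors.2 ⟨h168, by norm_num⟩) h7 (by
    rw [hcm, Nat.mul_div_cancel _ Nat.card_pos]; exact hm)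
  obtain ⟨⟨y, hy⟩, hyo⟩ := exists_prime_orderOf_dvd_card' 3 h3
  rw [Subgroup.orderOf_mk] at hyo
  obtain ⟨f, hf, hk⟩ := D.iso
  set yJ : J := ⟨y, hy.1⟩
  set sJ : J := ⟨s, hsJ⟩
  have hy3 : yJ * yJ * yJ = 1 := Subtype.ext (by
    show y * y * y = 1
    have := pow_orderOf_eq_one y
    rw [hyo] at this
    simpa [pow_succ, mul_assoc] using this)
  have hs7 : sJ * sJ * sJ * sJ * sJ * sJ * sJ = 1 := Subtype.ext (by
    show s * s * s * s * s * s * s = 1
    have := pow_orderOf_eq_one s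
    rw [hs] at this
    simpa [pow_succ, mul_assoc] using this)
  have hker : ∀ v : J, f v = 1 → (orderOf (v : G)) ∣ 8 := fun v hv => by
    rw [Subgroup.orderOf_coe, ← D.card8]
    exact EJ.orderOf_dvd_natCard (hk ▸ MonoidHom.mem_ker.2 hv)
  have hfy : f yJ ≠ 1 := fun h => by
    have := hker yJ h
    rw [show orderOf ((yJ : J) : G) = 3 from hyo] at this
    norm_num at this
  have h1 := no21_matrix (f yJ).1
    (congrArg Subtype.val (show f yJ * f yJ * f yJ = 1 by rw [← map_mul, ← map_mul, hy3, map_one]))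
    (fun e => hfy (Subtype.ext e)) (f sJ).1
    (congrArg Subtype.val (show f yJ * f sJ = f sJ * f yJ by
      rw [← map_mul, ← map_mul, show yJ * sJ = sJ * yJ from
        Subtype.ext (mem_centralizer_singleton_iff.1 hy.2)]))
    (congrArg Subtype.val (show f sJ * f sJ * f sJ * f sJ * f sJ * f sJ * f sJ = 1 by
      rw [← map_mul, ← map_mul, ← map_mul, ← map_mul, ← map_mul, ← map_mul, hs7, map_one]))
  have := hker sJ (Subtype.ext h1)
  rw [show orderOf ((sJ : J) : G) = 7 from hs] at this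
  norm_num at this

/-- Both the centralizer and the normaliser of the element of order seven lie in the normaliser
of the line; the complement centralises the line. -/
theorem seven_local {s : G} {I : Subgroup G} (F : SevenData s I) (h49 : ¬ 49 ∣ Nat.card G)
    (hs : orderOf s = 7) (hsJ : s ∈ J) (hsz : s * z ≠ z * s) :
    normalizer (zpowers s : Set G) ≤ M R ∧ I ≤ CZ R := by
  classical
  obtain ⟨φ⟩ := F.iso
  have hsM : s ∈ M R := D.CQ_le_M S (D.J_le hsJ)
  set C := centralizer ({s} : Set G) with hC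
  set Nm := normalizer (zpowers s : Set G) with hNm
  have hCN : C ≤ Nm := by
    rw [hC, hNm, ← H11.J4Seven.cent_zpowers]
    exact centralizer_le_normalizer _
  have hMc := (D.M_structure S).1
  have h49M : ¬ 49 ∣ Nat.card (M R) := fun h => h49 (h.trans (card_subgroup_dvd_card _))
  obtain ⟨m, hm, hcm⟩ := H11.J4Seven.sylow_count hs hsM h49M
  haveI : (C.subgroupOf Nm).Normal := by
    rw [hC, hNm, ← H11.J4Seven.cent_zpowers, ← Subgroup.normalizerMonoidHom_ker]
    infer_instance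
  set i : ↥(M R ⊓ Nm) →* ↥Nm ⧸ C.subgroupOf Nm :=
    (QuotientGroup.mk' _).comp (Subgroup.inclusion inf_le_right) with hidef
  have hker : Nat.card i.ker = Nat.card ↥(M R ⊓ C) := Nat.card_congr
    { toFun := fun x => ⟨x.1.1, (mem_inf.1 x.1.2).1, mem_subgroupOf.1 ((QuotientGroup.eq_one_iff
        (Subgroup.inclusion inf_le_right x.1)).1 (MonoidHom.mem_ker.1 x.2))⟩
      invFun := fun x => ⟨⟨x.1, (mem_inf.1 x.2).1, hCN (mem_inf.1 x.2).2⟩, MonoidHom.mem_ker.2
        ((QuotientGroup.eq_one_iff _).2 (mem_subgroupOf.2 (mem_inf.1 x.2).2))⟩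
      left_inv := fun _ => rfl
      right_inv := fun _ => rfl }
  have hq : Nat.card (↥Nm ⧸ C.subgroupOf Nm) = 3 := by
    have h := (C.subgroupOf Nm).card_mul_index
    rw [Nat.card_congr (subgroupOfEquivOfLe hCN).toEquiv, F.norm, Nat.mul_comm 3] at h
    rw [← index_eq_card]
    exact Nat.eq_of_mul_eq_mul_left (by rw [F.card]; norm_num) h
  have hj : Nat.card i.range ∣ 3 := hq ▸ card_subgroup_dvd_card _
  have hij := i.ker.card_mul_index
  rw [index_ker, hker] at hij
  -- the part of `I` in the normaliser of the line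
  let f : ↥(zpowers s) × ↥(M R ⊓ I) → ↥(M R ⊓ C) := fun v =>
    ⟨(v.1 : G) * v.2, mul_mem (zpowers_le.2 (⟨hsM, mem_centralizer_singleton_iff.2 rfl⟩ :
      s ∈ M R ⊓ C) v.1.2) ⟨v.2.2.1, F.le v.2.2.2⟩⟩
  have hf : Function.Bijective f := by
    refine ⟨fun a b h => ?_, fun x => ?_⟩
    · have h' : (a.1 : G) * a.2 = b.1 * b.2 := congrArg Subtype.val h
      have hm : (b.1 : G)⁻¹ * a.1 ∈ zpowers s ⊓ I := by
        refine ⟨(zpowers s).mul_mem ((zpowers s).inv_mem b.1.2) a.1.2, ?_⟩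
        rw [show (b.1 : G)⁻¹ * a.1 = (b.1 : G)⁻¹ * (a.1 * a.2) * (a.2 : G)⁻¹ by group, h',
          inv_mul_cancel_left]
        exact I.mul_mem b.2.2.2 (I.inv_mem a.2.2.2)
      rw [F.inf, mem_bot, inv_mul_eq_one] at hm
      exact Prod.ext (Subtype.ext hm.symm) (Subtype.ext (mul_left_cancel (hm ▸ h')))
    · obtain ⟨y, hy, hxy⟩ := F.exists_mul x x.2.2
      have hyM : y ∈ M R := by
        have := mul_mem (inv_mem (zpowers_le.2 hsM hxy)) x.2.1
        simpa [mul_assoc] using this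
      exact ⟨(⟨_, hxy⟩, ⟨y, hyM, hy⟩), Subtype.ext (inv_mul_cancel_right (x : G) y)⟩
  have hMI := Nat.card_congr (Equiv.ofBijective f hf)
  rw [Nat.card_prod, H11.J4Seven.orderOf_gen hs] at hMI
  set k := Nat.card ↥(M R ⊓ I) with hk
  have hk' : Nat.card ↥(((M R ⊓ I).subgroupOf I).map φ.toMonoidHom) = k := by
    rw [card_map_of_injective φ.injective,
      Nat.card_congr (subgroupOfEquivOfLe inf_le_right).toEquiv]
  have h120 : Nat.card S5 = 120 := by
    rw [Nat.card_eq_fintype_card, Fintype.card_perm, Fintype.card_fin]; rfl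
  have hk120 : k ∈ Nat.divisors 120 := Nat.mem_divisors.2
    ⟨h120 ▸ hk' ▸ card_subgroup_dvd_card _, by norm_num⟩
  have hj3 : Nat.card i.range = 3 := by
    rcases (Nat.dvd_prime Nat.prime_three).1 hj with h | h
    · exfalso
      obtain ⟨x, hxJ, hxN, hxC⟩ := D.exists_norm S F hs hsJ
      have hbot : i.range = ⊥ := Subgroup.eq_bot_of_card_eq _ h
      set x' : ↥(M R ⊓ Nm) := ⟨x, D.CQ_le_M S (D.J_le hxJ), hxN⟩
      have : i x' = 1 := (Subgroup.eq_bot_iff_forall _).1 hbot _ ⟨x', rfl⟩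
      exact hxC (mem_subgroupOf.1 ((QuotientGroup.eq_one_iff
        (Subgroup.inclusion inf_le_right x')).1 this))
    · exact h
  have h5 : 5 ∣ k := by
    have hq : (q5 R : G) ∈ M R ⊓ C := ⟨D.CQ_le_M S ((mem_cent_iff R).2 rfl),
      mem_centralizer_singleton_iff.2 ((mem_cent_iff R).1 (D.J_le hsJ))⟩
    have h := (M R ⊓ C).orderOf_dvd_natCard hq
    rw [orderOf_q5, ← hMI] at h
    exact ((by norm_num : Nat.Coprime 5 7)).dvd_of_dvd_mul_left h
  have he : 2 ^ 21 * 45 = m * (3 * k) := by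
    rw [hMc, ← hij, ← hMI, hj3] at hcm
    refine Nat.eq_of_mul_eq_mul_left (show 0 < 7 by norm_num) ?_
    calc 7 * (2 ^ 21 * 45) = 168 * (2 ^ 11 * 1920) := by norm_num
      _ = m * (7 * k * 3) := hcm
      _ = 7 * (m * (3 * k)) := by ring
  have hk2 : k = 120 := by
    rcases div_numbers k hk120 h5 ⟨m, he.trans (mul_comm _ _)⟩ (by
      rw [he, Nat.mul_div_cancel _ (Nat.mul_pos (by norm_num) Nat.card_pos)]
      exact hm) with h | h
    · exact absurd (hk'.trans h) (no_sub_fifteen _)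
    · exact h
  have hN : Nat.card ↥(M R ⊓ Nm) = Nat.card Nm := by
    rw [F.norm, F.card, ← hij, ← hMI, hk2, hj3]
  have hNM : Nm ≤ M R := by
    rw [← Subgroup.eq_of_le_of_card_ge (inf_le_right : M R ⊓ Nm ≤ Nm) hN.ge]
    exact inf_le_left
  refine ⟨hNM, fun x hx => ?_⟩
  have hxC := F.le hx
  have h7 := D.pow_seven_mem S hs hsJ hsz (hNM (hCN hxC)) (mem_centralizer_singleton_iff.1 hxC)
  have hp : x ^ 120 = 1 := by
    have := pow_card_eq_one' (x := φ ⟨x, hx⟩)
    rw [h120, ← map_pow, map_eq_one_iff φ φ.injective] at this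
    exact congrArg Subtype.val this
  rw [show x = (x ^ 7) ^ 103 by rw [← pow_mul, show 7 * 103 = 120 * 6 + 1 from rfl, pow_succ, pow_mul,
    hp, one_pow, one_mul]]
  exact pow_mem h7 103

end JData

end H11.J4Pent
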