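import Cfsg.Agent.H11.J4Pent.Struct
import Cfsg.Agent.H11.J4Pent.Points
import Cfsg.Agent.H69.J4.LocalThree

/-!
A copy of `L3(2)` in the normaliser of `L`, inside the centralizer of an element of order three.
-/

set_option autoImplicit false
set_option linter.unusedSectionVars false
set_option linter.style.haveILetI false

namespace H11.J4Pent

open Subgroup Cfsg.Agent.H69.J4 H88.J4Fusion H95.J4Five

def m7 : Matrix (Fin 3) (Fin 3) (ZMod 2) := !![0, 0, 1; 1, 0, 1; 0, 1, 0]

def mT : Matrix (Fin 3) (Fin 3) (ZMod 2) := !![1, 1, 0; 0, 1, 0; 0, 0, 1]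

theorem commutant_one : ∀ A : Matrix (Fin 3) (Fin 3) (ZMod 2),
    A * m7 = m7 * A → A * mT = mT * A → A.det = 1 → A = 1 := by decide +kernel

theorem det_gens : m7.det = 1 ∧ mT.det = 1 := by decide +kernel

theorem sl32_center (x : SL32) (h : ∀ y : SL32, x * y = y * x) : x = 1 :=
  Subtype.ext (commutant_one x.1 (congrArg Subtype.val (h ⟨m7, det_gens.1⟩))
    (congrArg Subtype.val (h ⟨mT, det_gens.2⟩)) x.2)

variable {G : Type*} [Group G] [Finite G]
variable {z : G} {E P N : Subgroup G} {d : Data z E P} {R : Real d}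
  {e : ↥(centralizer ({z} : Set G)) →* MulAut ↥Cfsg.Spor.M22}
variable {J : Subgroup G} {EJ : Subgroup ↥J} {s : G} {I : Subgroup G}

namespace Core

variable (C : Core R e N J EJ s I)
include C

/-- An element of order three of `C(Z)` whose centralizer in `L` is the line. -/
theorem exists_three : ∃ y : G, orderOf y = 3 ∧ y ∈ CZ R ∧ y ∉ Tri R ∧
    ∀ t ∈ Tri R, t * y = y * t → t ∈ lineE R := by
  haveI : Fact (Nat.Prime 3) := ⟨Nat.prime_three⟩
  obtain ⟨h1025, hcube, hne⟩ := threeW_ok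
  obtain ⟨k, hk, hc⟩ := exists_word_CZ R h1025
  set kH : ↥(centralizer ({z} : Set G)) := ⟨k, CZ_le_H R hk⟩ with hkH
  have h3 : d.ρ kH ^ 3 = 1 := R.mat_inj (by
    rw [pow_succ', pow_two, R.mat_mul, R.mat_mul, hc, hcube, R.mat_one])
  have hE : ((kH ^ 3 : ↥(centralizer ({z} : Set G))) : G) ∈ E := (d.mem_ker_iff).1 (by rw [map_pow, h3])
  have h12 : (k ^ 3) ^ 4 = 1 := by
    rw [SubgroupClass.coe_pow] at hE
    change k ^ 3 ∈ E at hE
    rw [show (4 : ℕ) = 2 * 2 from rfl, pow_mul, pow_two (k ^ 3)]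
    rcases d.L.sq_cases hE with h | h <;> rw [h]
    · exact one_pow 2
    · rw [pow_two, d.L.zz]
  have hρ : R.code (d.ρ (kH ^ 4)) = evalM threeW := by
    rw [map_pow, pow_succ, h3, one_mul, hc]
  have hy3 : (k ^ 4) ^ 3 = 1 := by rw [← pow_mul, mul_comm, pow_mul, h12]
  have hy1 : k ^ 4 ≠ 1 := fun h => by
    rw [show kH ^ 4 = 1 from Subtype.ext h, map_one, R.mat_one] at hρ
    rw [← hρ] at hne
    simp at hne
  refine ⟨k ^ 4, orderOf_eq_prime hy3 hy1, pow_mem hk 4, fun h => ?_, fun t ht hty => ?_⟩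
  · obtain ⟨n, hn⟩ := isPGroup_Tri R ⟨_, h⟩
    exact hy1 (orderOf_eq_one_iff.1 (Nat.eq_one_of_dvd_coprimes
      ((Nat.coprime_primes Nat.prime_two Nat.prime_three).2 (by norm_num) |>.pow_left n)
      (orderOf_dvd_of_pow_eq_one (congrArg Subtype.val hn)) (orderOf_dvd_of_pow_eq_one hy3)))
  · obtain ⟨w, hw, hwc⟩ := C.hI.code_Tri C.S ⟨t, ht⟩
    set tH : ↥(centralizer ({z} : Set G)) := ⟨t, CZ_le_H R (Tri_le R ht)⟩
    change R.code (d.ρ tH) = evalM w at hwc
    have hcomm : mm (evalM w) (evalM threeW) = mm (evalM threeW) (evalM w) := by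
      rw [← hwc, ← hρ, ← R.mat_mul, ← R.mat_mul, ← map_mul, ← map_mul]
      exact congrArg (fun u => R.code (d.ρ u)) (Subtype.ext hty)
    have hker := (List.all_eq_true.1 threeW_ker) w hw
    rw [Bool.or_eq_true, Bool.not_eq_true', beq_iff_eq, beq_eq_false_iff_ne] at hker
    have hone : d.ρ tH = 1 := R.mat_inj (by
      rw [hwc, R.mat_one]; exact hker.resolve_right fun h => h hcomm)
    have htE : t ∈ E := (d.mem_ker_iff (h := tH)).1 hone
    obtain ⟨v, hv, hvt⟩ := exists_coord R htE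
    refine (mem_lineE_iff R htE hv hvt).2 ?_
    have hD := (mem_EZ_iff R htE hv hvt).1 (mem_inf.2 ⟨htE, Tri_le R ht⟩)
    have hf := (List.all_eq_true.1 threeW_fix) v (List.mem_range.2 hv)
    rw [hD, Bool.not_true, Bool.false_or, Bool.or_eq_true, List.contains_iff_mem,
      Bool.not_eq_true'] at hf
    refine hf.resolve_right fun hb => ?_
    have h1 := R.apply (d.ρ (kH ^ 4)) v
    rw [hvt, d.ρ_mk, hρ] at h1
    have h2 : (⟨((kH ^ 4 : ↥(centralizer ({z} : Set G))) : G) * t *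
        ((kH ^ 4 : ↥(centralizer ({z} : Set G))) : G)⁻¹, d.L.conj_mem (kH ^ 4).2 htE⟩ : E) =
        ⟨t, htE⟩ := Subtype.ext (by
      show k ^ 4 * t * (k ^ 4)⁻¹ = t
      rw [← hty, mul_inv_cancel_right])
    rw [h2, ← hvt] at h1
    have h3' := R.φ_inj hv (hρ ▸ code_lt R _ v) h1
    rw [← h3', Nat.beq_refl] at hb
    exact Bool.false_ne_true hb.symm

/-- Elements of order seven of `M` act without fixed points on the line. -/
theorem free_seven {u a : G} (hu : orderOf u = 7) (huM : u ∈ M R) (ha : a ∈ lineE R)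
    (hc : u * a = a * u) : a = 1 := by
  haveI : Fact (Nat.Prime 7) := ⟨by norm_num⟩
  by_contra ha1
  obtain ⟨b, hb, rfl⟩ := (C.D.EJ_eq C.S).ge ha
  obtain ⟨j, hj⟩ := C.D.conj_z C.S.out hb (fun h => ha1 (by rw [h]; rfl))
  set v := (j : G)⁻¹ * u * j with hv
  have hvo : orderOf v = 7 := by
    rw [hv, show (j : G)⁻¹ * u * j = MulAut.conj (j : G)⁻¹ u by simp, MulEquiv.orderOf_eq, hu]
  have hvz : v ∈ centralizer ({z} : Set G) := mem_centralizer_singleton_iff.2 (by
    change u * (b : G) = (b : G) * u at hc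
    rw [← hj] at hc
    calc (j : G)⁻¹ * u * j * z = (j : G)⁻¹ * (u * (j * z * (j : G)⁻¹)) * j := by group
      _ = (j : G)⁻¹ * (j * z * (j : G)⁻¹ * u) * j := by rw [hc]
      _ = z * ((j : G)⁻¹ * u * j) := by group)
  have hvM : v ∈ M R := mul_mem (mul_mem (inv_mem (C.J_le_M j.2)) huM) (C.J_le_M j.2)
  -- the stabiliser of `z` in the normaliser of the line has no element of order seven
  obtain ⟨t, ht, i, hi, k, hk, hvk⟩ := C.exists_decomp hvM
  have hkz : k * z = z * k := by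
    have h1 : t * i ∈ centralizer ({z} : Set G) := CZ_le_H R (mul_mem (Tri_le R ht) (C.hI.le hi))
    have h2 := mul_mem (inv_mem h1) hvz
    rw [hvk, inv_mul_cancel_left] at h2
    exact mem_centralizer_singleton_iff.1 h2
  haveI hn : ((CZ R).subgroupOf (M R)).Normal := ⟨fun x hx g => mem_subgroupOf.2 (by
    have := C.conj_CZ (inv_mem g.2) (mem_subgroupOf.1 hx)
    simpa using this)⟩
  let q : ↥(M R) →* _ := QuotientGroup.mk' ((CZ R).subgroupOf (M R))
  let kJ : J := ⟨k, hk⟩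
  have hq : q ⟨v, hvM⟩ = q ⟨k, C.J_le_M hk⟩ := by
    show QuotientGroup.mk _ = QuotientGroup.mk _
    rw [QuotientGroup.eq, mem_subgroupOf]
    show v⁻¹ * k ∈ CZ R
    rw [hvk, mul_inv_rev, mul_assoc]
    have hti : (t * i)⁻¹ ∈ CZ R := inv_mem (mul_mem (Tri_le R ht) (C.hI.le hi))
    simpa [mul_assoc] using C.conj_CZ (C.J_le_M hk) hti
  have hd1 : orderOf (q ⟨k, C.J_le_M hk⟩) ∣ 192 := by
    refine (orderOf_map_dvd q _).trans ?_
    rw [Subgroup.orderOf_mk, ← Subgroup.orderOf_mk k hk, ← C.D.card_CJz C.S.out]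
    exact Subgroup.orderOf_dvd_natCard _ (mem_centralizer_singleton_iff.2 (Subtype.ext hkz) :
      kJ ∈ centralizer ({(⟨z, C.D.z_mem_J⟩ : J)} : Set J))
  have hd2 : orderOf (q ⟨v, hvM⟩) ∣ 7 := by
    refine (orderOf_map_dvd q _).trans ?_
    rw [Subgroup.orderOf_mk, hvo]
  rw [hq] at hd2
  have h1 : q ⟨k, C.J_le_M hk⟩ = 1 :=
    orderOf_eq_one_iff.1 (Nat.eq_one_of_dvd_coprimes (by norm_num : Nat.Coprime 192 7) hd1 hd2)
  rw [← hq] at h1
  have hvC : v ∈ CZ R := mem_subgroupOf.1 ((QuotientGroup.eq_one_iff _).1 h1)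
  have h7 := (CZ R).orderOf_dvd_natCard hvC
  rw [hvo, card_CZ R C.S] at h7
  norm_num at h7

/-- The copy of `L3(2)`. -/
theorem exists_sl32 [IsSimpleGroup G] (hJ : Cfsg.IsOfJankoFourTypeWith z P) :
    ∃ K : Subgroup G, K ≤ normalizer (Tri R : Set G) ∧ Nonempty (↥K ≃* SL32) := by
  classical
  haveI : Fact (Nat.Prime 3) := ⟨Nat.prime_three⟩
  haveI : Fact (Nat.Prime 7) := ⟨by norm_num⟩
  rw [C.normalizer_eq]
  obtain ⟨y, hy, hyC, hyT, hyfix⟩ := C.exists_three
  have hyM : y ∈ M R := CZ_le_M R hyC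
  haveI hn : ((Tri R).subgroupOf (M R)).Normal :=
    ⟨fun a ha g => mem_subgroupOf.2 (C.tri_conj g.2 (mem_subgroupOf.1 ha))⟩
  set q := QuotientGroup.mk' ((Tri R).subgroupOf (M R)) with hq
  let fj : ↥J →* _ := q.comp (Subgroup.inclusion C.J_le_M)
  obtain ⟨f, hf, hk⟩ := C.D.iso
  have hker : fj.ker = f.ker := by
    rw [hk]
    ext j
    rw [MonoidHom.mem_ker]
    show q _ = 1 ↔ _
    rw [hq, QuotientGroup.mk'_apply, QuotientGroup.eq_one_iff, mem_subgroupOf]
    exact ⟨fun h => (C.D.mem_J_CZ C.S j).1 (Tri_le R h),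
      fun h => lineE_le_Tri R (C.D.EJ_eq C.S ▸ ⟨j, h, rfl⟩)⟩
  set U : Subgroup ↥(M R) :=
    centralizer ({(⟨y, hyM⟩ : M R)} : Set ↥(M R)) ⊓ fj.range.comap q with hU
  let β : ↥fj.range ≃* SL32 := ((QuotientGroup.quotientKerEquivRange fj).symm.trans
    (QuotientGroup.quotientMulEquivOfEq hker)).trans (QuotientGroup.quotientKerEquivOfSurjective f hf)
  let γ : ↥U →* SL32 := β.toMonoidHom.comp
    ((q.comp U.subtype).codRestrict fj.range fun u => (mem_inf.1 u.2).2)
  have hγ : Function.Surjective γ := by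
    intro g
    obtain ⟨j, hj⟩ := (β.symm g).2
    have hkc : ¬ 3 ∣ Nat.card q.ker := by
      rw [hq, QuotientGroup.ker_mk', Nat.card_congr (subgroupOfEquivOfLe C.Tri_le_M).toEquiv,
        C.hI.card_Tri C.S]
      norm_num
    obtain ⟨x, hx, hxy⟩ := H11.J4Seven.exists_lift q (p := 3) (s := (⟨y, hyM⟩ : M R))
      (Subtype.ext (by show y ^ 3 = 1; rw [← hy]; exact pow_orderOf_eq_one y)) hkc
      (QuotientGroup.mk'_surjective _) (b := fj j) (by
        show q _ * q _ = q _ * q _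
        rw [← map_mul, ← map_mul, hq, QuotientGroup.mk'_apply, QuotientGroup.mk'_apply,
          QuotientGroup.eq, mem_subgroupOf]
        show (y * (j : G))⁻¹ * ((j : G) * y) ∈ Tri R
        have h := C.J_mod (inv_mem j.2) (inv_mem hyC)
        simp only [inv_inv] at h
        rwa [mul_inv_rev, ← mul_assoc])
    refine ⟨⟨x, mem_inf.2 ⟨mem_centralizer_singleton_iff.2 hxy.symm, ⟨j, hx.symm⟩⟩⟩, ?_⟩
    refine β.eq_symm_apply.1 (Subtype.ext ?_) |>.symm.symm
    show q x = ((β.symm g : fj.range) : _)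
    rw [hx]
    exact hj
  set Z : Subgroup ↥U := ((lineE R).subgroupOf (M R)).subgroupOf U with hZ
  have hLU : ∀ a, ∀ ha : a ∈ lineE R, (⟨a, CZ_le_M R (lineE_le_CZ R ha)⟩ : M R) ∈ U := fun a ha =>
    mem_inf.2 ⟨mem_centralizer_singleton_iff.2 (Subtype.ext (lineE_comm R ha hyC)), mem_comap.2 (by
      rw [hq, QuotientGroup.mk'_apply, (QuotientGroup.eq_one_iff _).2
        (mem_subgroupOf.2 (lineE_le_Tri R ha) : (⟨a, CZ_le_M R (lineE_le_CZ R ha)⟩ : M R) ∈ _)]
      exact one_mem _)⟩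
  have hγk : γ.ker = Z := by
    ext u
    rw [MonoidHom.mem_ker, hZ, mem_subgroupOf, mem_subgroupOf]
    show β _ = 1 ↔ _
    rw [map_eq_one_iff β β.injective, Subtype.ext_iff]
    show q (u : M R) = 1 ↔ _
    rw [hq, QuotientGroup.mk'_apply, QuotientGroup.eq_one_iff, mem_subgroupOf]
    refine ⟨fun h => hyfix _ h ?_, fun h => lineE_le_Tri R h⟩
    exact congrArg Subtype.val (mem_centralizer_singleton_iff.1 (mem_inf.1 u.2).1)
  haveI : Z.Normal := hγk ▸ inferInstance
  have hZ8 : Nat.card Z = 8 := by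
    rw [← card_lineE R]
    exact Nat.card_congr
      { toFun := fun a => ⟨a.1.1.1, mem_subgroupOf.1 (mem_subgroupOf.1 a.2)⟩
        invFun := fun a => ⟨⟨_, hLU a a.2⟩, mem_subgroupOf.2 (mem_subgroupOf.2 a.2)⟩
        left_inv := fun _ => rfl
        right_inv := fun _ => rfl }
  have hUc : Nat.card U = 1344 := by
    rw [← γ.ker.card_mul_index, index_ker, MonoidHom.range_eq_top.2 hγ, card_top, hγk, hZ8,
      H47.G23.card_sl32]
  have hfree : ∀ u : U, orderOf u = 7 → ∀ a ∈ Z, u * a = a * u → a = 1 := by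
    intro u hu a ha huv
    rw [← Subgroup.orderOf_coe, ← Subgroup.orderOf_coe] at hu
    exact Subtype.ext (Subtype.ext (C.free_seven hu u.1.2
      (mem_subgroupOf.1 (mem_subgroupOf.1 ha)) (congrArg (fun w : U => ((w : M R) : G)) huv)))
  have hcen : ∀ u : U, (∀ w : U, u * w = w * u) → u = 1 := by
    intro u hu
    have h1 : γ u = 1 := sl32_center _ fun g => by
      obtain ⟨w, rfl⟩ := hγ g
      rw [← map_mul, hu w, map_mul]
    obtain ⟨v, hv⟩ := exists_prime_orderOf_dvd_card' (G := U) 7 (by rw [hUc]; norm_num)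
    exact hfree v hv u (hγk ▸ MonoidHom.mem_ker.2 h1) (hu v).symm
  -- move into `C_H(P)`
  obtain ⟨p, hp, hp1, hp3, hall⟩ := Outer.exists_gen d
  obtain ⟨g, hg⟩ := isConj_iff.1 (one_class_three (z := z) (P := P) C.S.notComm hJ hy
    (orderOf_eq_prime (by simpa [pow_succ, mul_assoc] using hp3) hp1))
  set C0 := centralizer ({z} : Set G) ⊓ centralizer (P : Set G) with hC0
  have hconj : ∀ u : U, g * ((u : M R) : G) * g⁻¹ ∈ C0 := by
    intro u
    have hu : ((u : M R) : G) * y = y * ((u : M R) : G) :=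
      congrArg Subtype.val (mem_centralizer_singleton_iff.1 (mem_inf.1 u.2).1)
    have hcp : g * ((u : M R) : G) * g⁻¹ ∈ centralizer (P : Set G) := by
      refine mem_centralizer_iff.2 fun w hw => ?_
      have h1 : Commute (g * ((u : M R) : G) * g⁻¹) p := by
        have := (show Commute ((u : M R) : G) y from hu).map (MulAut.conj g)
        rw [← hg]
        simpa using this
      rcases hall w hw with rfl | rfl | rfl
      · simp
      · exact h1.symm.eq
      · exact (h1.mul_right h1).symm.eq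
    exact ⟨normalizer_P_le C.S.notComm hJ (centralizer_le_normalizer _ hcp), hcp⟩
  let c : ↥U →* ↥C0 := ((MulAut.conj g).toMonoidHom.comp ((M R).subtype.comp U.subtype)).codRestrict
    C0 hconj
  have hcinj : Function.Injective c := fun a b h => by
    have h' : g * ((a : M R) : G) * g⁻¹ = g * ((b : M R) : G) * g⁻¹ := congrArg Subtype.val h
    exact Subtype.ext (Subtype.ext (mul_left_cancel (mul_right_cancel h')))
  obtain ⟨π, hπ, hπk⟩ := H42.J4.exists_hom_cent hJ
  have hι : Function.Injective (π.comp c) := (injective_iff_map_eq_one _).2 fun u hu => hcen u fun w => by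
    have hk1 : c u ∈ π.ker := MonoidHom.mem_ker.2 hu
    rw [hπk, mem_subgroupOf] at hk1
    refine hcinj ?_
    rw [map_mul, map_mul]
    exact Subtype.ext (H42.J4.ker_central hJ hk1 (c w).2)
  obtain ⟨K, hK, hKZ⟩ := exists_complement (π.comp c) hι Z hZ8
    (fun a ha => Subtype.ext (Subtype.ext (lineE_sq R (mem_subgroupOf.1 (mem_subgroupOf.1 ha)))))
    hUc hfree
  let h : ↥K →* SL32 := γ.comp K.subtype
  have hinj : Function.Injective h := (injective_iff_map_eq_one _).2 fun a ha => Subtype.ext (by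
    have hm : (a : U) ∈ K ⊓ Z := ⟨a.2, hγk ▸ MonoidHom.mem_ker.2 ha⟩
    rwa [hKZ, mem_bot] at hm)
  have hbij : Function.Bijective h := hinj.bijective_of_nat_card_le (by
    rw [hK, H47.G23.card_sl32])
  refine ⟨(K.map U.subtype).map (M R).subtype, map_subtype_le _, ⟨?_⟩⟩
  exact (((K.map U.subtype).equivMapOfInjective _ (M R).subtype_injective).symm.trans
    (K.equivMapOfInjective _ U.subtype_injective).symm).trans (MulEquiv.ofBijective h hbij)

end Core

end H11.J4Pent
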