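import Cfsg.Agent.H11.J4Pent.Top
import Cfsg.Agent.H6.Basic
import Cfsg.Agent.H31.Basic

/-!
The normaliser of `L`: the quotient `S5 x L3(2)`, `L` special, no complement.
-/

set_option autoImplicit false
set_option linter.unusedSectionVars false
set_option linter.style.haveILetI false

namespace H11.J4Pent

open Subgroup Cfsg.Agent.H69.J4 H88.J4Fusion H95.J4Five
open scoped commutatorElement

variable {G : Type*} [Group G] [Finite G]

/-- Everything gathered so far. -/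
structure Core {z : G} {E P : Subgroup G} {d : Data z E P} (R : Real d)
    (e : ↥(centralizer ({z} : Set G)) →* MulAut ↥Cfsg.Spor.M22) (N J : Subgroup G)
    (EJ : Subgroup ↥J) (s : G) (I : Subgroup G) : Prop where
  D : JData R J EJ
  S : Setup R e N
  hs : orderOf s = 7
  hsJ : s ∈ J
  hsz : s * z ≠ z * s
  hI : IHyp R I
  hIs : I ≤ centralizer ({s} : Set G)
  normS : normalizer (zpowers s : Set G) ≤ M R

variable {z : G} {E P N : Subgroup G} {d : Data z E P} {R : Real d}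
  {e : ↥(centralizer ({z} : Set G)) →* MulAut ↥Cfsg.Spor.M22}
variable {J : Subgroup G} {EJ : Subgroup ↥J} {s : G} {I : Subgroup G}

namespace Core

variable (C : Core R e N J EJ s I)
include C

theorem Tri_le_M : Tri R ≤ M R := (Tri_le R).trans (CZ_le_M R)

theorem J_le_M : J ≤ M R := C.D.J_le.trans (C.D.CQ_le_M C.S)

theorem I_le_M : I ≤ M R := C.hI.le.trans (CZ_le_M R)

theorem conj_CZ {m x : G} (hm : m ∈ M R) (hx : x ∈ CZ R) : m⁻¹ * x * m ∈ CZ R := by
  refine mem_centralizer_iff.2 fun a ha => ?_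
  have h := mem_centralizer_iff.1 hx _ ((mem_normalizer_iff.1 hm a).1 ha)
  calc a * (m⁻¹ * x * m) = m⁻¹ * (m * a * m⁻¹ * x) * m := by group
    _ = m⁻¹ * (x * (m * a * m⁻¹)) * m := by rw [h]
    _ = _ := by group

theorem tri_conj {m t : G} (hm : m ∈ M R) (ht : t ∈ Tri R) : m * t * m⁻¹ ∈ Tri R :=
  C.hI.Tri_normal C.S hm ht

theorem center_iff {k : G} (hk : k ∈ Tri R) :
    (∀ t ∈ Tri R, k * t = t * k) ↔ k ∈ lineE R :=
  ⟨fun h => C.hI.mem_line_of_fix C.S hk fun a ha => by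
      rw [h a (EZ_le_Tri R ha), mul_inv_cancel_right],
    fun h t ht => lineE_comm R h (Tri_le R ht)⟩

theorem normalizer_eq : normalizer (Tri R : Set G) = M R := by
  refine le_antisymm (fun x hx => ?_) fun m hm => Subgroup.mem_normalizer_fintype fun t ht =>
    C.tri_conj hm ht
  refine Subgroup.mem_normalizer_fintype fun a ha => ?_
  have hxa : x * a * x⁻¹ ∈ Tri R := (mem_normalizer_iff.1 hx a).1 (lineE_le_Tri R ha)
  refine (C.center_iff hxa).1 fun t ht => ?_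
  have h := lineE_comm R ha (Tri_le R (((mem_normalizer_iff'').1 hx t).1 ht))
  calc x * a * x⁻¹ * t = x * (a * (x⁻¹ * t * x)) * x⁻¹ := by group
    _ = x * (x⁻¹ * t * x * a) * x⁻¹ := by rw [h]
    _ = _ := by group

theorem centre_card : Nat.card (center ↥(Tri R)) = 8 := by
  rw [← card_lineE R]
  exact Nat.card_congr
    { toFun := fun x => ⟨x.1.1, (C.center_iff x.1.2).1 fun t ht =>
        (congrArg Subtype.val (Subgroup.mem_center_iff.1 x.2 ⟨t, ht⟩)).symm⟩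
      invFun := fun x => ⟨⟨x.1, lineE_le_Tri R x.2⟩, Subgroup.mem_center_iff.2 fun t =>
        Subtype.ext (lineE_comm R x.2 (Tri_le R t.2)).symm⟩
      left_inv := fun _ => rfl
      right_inv := fun _ => rfl }

theorem comm_center {x : ↥(Tri R)} (hx : (x : G) ∈ lineE R) : x ∈ center ↥(Tri R) :=
  Subgroup.mem_center_iff.2 fun t => Subtype.ext (lineE_comm R hx (Tri_le R t.2)).symm

theorem fix_of_line {k a : G} (hk : k ∈ Tri R) (ha : a ∈ EZ R) :
    ∃ ζ ∈ lineE R, k * a * k⁻¹ = ζ * a :=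
  ⟨_, hk.2 a ha, by group⟩

theorem special : Cfsg.IsSpecial 2 ↥(Tri R) := by
  classical
  haveI : Fact (Nat.Prime 2) := ⟨Nat.prime_two⟩
  have hp := isPGroup_Tri R
  have hsq : ∀ x : Tri R, x ^ 2 ∈ center ↥(Tri R) := by
    intro x
    refine C.comm_center (C.hI.mem_line_of_fix C.S (x ^ 2 : Tri R).2 fun a ha => ?_)
    obtain ⟨ζ, hζ, e1⟩ := C.fix_of_line x.2 ha
    show (x : G) ^ 2 * a * ((x : G) ^ 2)⁻¹ = a
    calc (x : G) ^ 2 * a * ((x : G) ^ 2)⁻¹ = x * (x * a * (x : G)⁻¹) * (x : G)⁻¹ := by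
          rw [sq]; group
      _ = x * (ζ * a) * (x : G)⁻¹ := by rw [e1]
      _ = (x * ζ * (x : G)⁻¹) * (x * a * (x : G)⁻¹) := by group
      _ = ζ * (ζ * a) := by rw [CZ_fix R (Tri_le R x.2) hζ, e1]
      _ = a := by rw [← mul_assoc, lineE_sq R hζ, one_mul]
  have hcom : commutator ↥(Tri R) ≤ center ↥(Tri R) := by
    rw [_root_.commutator_def, Subgroup.commutator_le]
    intro x _ y _
    refine C.comm_center (C.hI.mem_line_of_fix C.S (⁅x, y⁆ : Tri R).2 fun a ha => ?_)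
    obtain ⟨ζ, hζ, e1⟩ := C.fix_of_line x.2 ha
    obtain ⟨η, hη, e2⟩ := C.fix_of_line y.2 ha
    have hxy : ∀ {u v : G} {α β : G}, u ∈ CZ R → α ∈ lineE R → β ∈ lineE R →
        u * a * u⁻¹ = α * a → v * a * v⁻¹ = β * a → u * v * a * (u * v)⁻¹ = β * α * a := by
      intro u v α β hu _ hβ e e'
      calc u * v * a * (u * v)⁻¹ = u * (v * a * v⁻¹) * u⁻¹ := by group
        _ = (u * β * u⁻¹) * (u * a * u⁻¹) := by rw [e']; group
        _ = _ := by rw [CZ_fix R hu hβ, e, mul_assoc]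
    have h1 := hxy (Tri_le R x.2) hζ hη e1 e2
    have h2 := hxy (Tri_le R y.2) hη hζ e2 e1
    rw [lineE_comm R hζ (lineE_le_CZ R hη), ← h1] at h2
    show (⁅x, y⁆ : Tri R).1 * a * ((⁅x, y⁆ : Tri R).1)⁻¹ = a
    rw [commutatorElement_def]
    simp only [Subgroup.coe_mul, Subgroup.coe_inv]
    -- both products act in the same way
    have h4 : (x : G)⁻¹ * (y : G)⁻¹ * a * ((x : G)⁻¹ * (y : G)⁻¹)⁻¹ =
        ((y : G) * x)⁻¹ * a * ((y : G) * x) := by group
    calc (x : G) * y * (x : G)⁻¹ * (y : G)⁻¹ * a * ((x : G) * y * (x : G)⁻¹ * (y : G)⁻¹)⁻¹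
        = (x * y) * ((x : G)⁻¹ * (y : G)⁻¹ * a * ((x : G)⁻¹ * (y : G)⁻¹)⁻¹) * ((x : G) * y)⁻¹ := by
          group
      _ = (x * y) * (((y : G) * x)⁻¹ * a * ((y : G) * x)) * ((x : G) * y)⁻¹ := by rw [h4]
      _ = a := by
          set b := ((y : G) * x)⁻¹ * a * ((y : G) * x) with hb
          have hbE : b ∈ EZ R := by
            have := conj_EZ R (inv_mem (mul_mem (Tri_le R y.2) (Tri_le R x.2))) ha
            simpa [hb] using this
          obtain ⟨α, hα, f1⟩ := C.fix_of_line x.2 hbE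
          obtain ⟨β, hβ, f2⟩ := C.fix_of_line y.2 hbE
          have hxy' : ∀ {u v : G} {α β : G}, u ∈ CZ R → β ∈ lineE R →
              u * b * u⁻¹ = α * b → v * b * v⁻¹ = β * b →
              u * v * b * (u * v)⁻¹ = β * α * b := by
            intro u v α β hu hβ e e'
            calc u * v * b * (u * v)⁻¹ = u * (v * b * v⁻¹) * u⁻¹ := by group
              _ = (u * β * u⁻¹) * (u * b * u⁻¹) := by rw [e']; group
              _ = _ := by rw [CZ_fix R hu hβ, e, mul_assoc]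
          have g1 := hxy' (Tri_le R x.2) hβ f1 f2
          have g2 := hxy' (Tri_le R y.2) hα f2 f1
          rw [g1, ← lineE_comm R hα (lineE_le_CZ R hβ), ← g2, hb]
          group
  have hz : ∀ a ∈ lineE R, ∀ ha : a ∈ Tri R, (⟨a, ha⟩ : Tri R) ∈ commutator ↥(Tri R) := by
    intro a ha hat
    by_cases ha1 : a = 1
    · subst ha1; exact one_mem _
    obtain ⟨u, hu, huv⟩ := exists_over R pairD.1
    obtain ⟨v, hv, hvv⟩ := exists_over R pairD.2
    have hlt : pairD.1 < 4096 ∧ pairD.2 < 4096 := by decide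
    obtain ⟨p1, p2, p3⟩ := pairD_ok
    have huT := EZ_le_Tri R ((mem_EZ_iff R hu hlt.1 huv).2 p1)
    have hvT := EZ_le_Tri R ((mem_EZ_iff R hv hlt.2 hvv).2 p2)
    have hne : u * v ≠ v * u := fun h => by
      rw [(comm_bF R hu hv hlt.1 hlt.2 huv hvv).1 h] at p3
      exact Bool.false_ne_true p3
    have hzc : (⟨z, lineE_le_Tri R (z_mem_lineE R)⟩ : Tri R) =
        ⁅(⟨u, huT⟩ : Tri R), (⟨v, hvT⟩ : Tri R)⁆ := by
      refine Subtype.ext ?_
      show z = u * v * u⁻¹ * v⁻¹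
      rw [(d.L.conj_cases hu hv).resolve_left hne, mul_inv_cancel_right]
    obtain ⟨b, hb, hba⟩ := (C.D.EJ_eq C.S).ge ha
    obtain ⟨j, hj⟩ := C.D.conj_z C.S.out hb (fun h => ha1 (by rw [← hba, h]; rfl))
    have hjM : (j : G) ∈ M R := C.J_le_M j.2
    rw [show (⟨a, hat⟩ : Tri R) =
      ⁅(⟨(j : G) * u * (j : G)⁻¹, C.tri_conj hjM huT⟩ : Tri R),
      (⟨(j : G) * v * (j : G)⁻¹, C.tri_conj hjM hvT⟩ : Tri R)⁆ from Subtype.ext (by
        show a = (j : G) * u * (j : G)⁻¹ * ((j : G) * v * (j : G)⁻¹) * ((j : G) * u * (j : G)⁻¹)⁻¹ *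
          ((j : G) * v * (j : G)⁻¹)⁻¹
        have e := congrArg Subtype.val hzc
        simp only [commutatorElement_def, Subgroup.coe_mul, Subgroup.coe_inv] at e
        rw [← hba]
        show (b : G) = _
        rw [← hj, e]
        group)]
    rw [_root_.commutator_def]
    exact Subgroup.commutator_mem_commutator (mem_top _) (mem_top _)
  have hceq : commutator ↥(Tri R) = center ↥(Tri R) := le_antisymm hcom fun x hx =>
    hz _ ((C.center_iff x.2).1 fun t ht =>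
      (congrArg Subtype.val (Subgroup.mem_center_iff.1 hx ⟨t, ht⟩)).symm) x.2
  exact ⟨hp, le_antisymm (H31.frattini_le_of_pow_mem Nat.prime_two _ hcom hsq)
    (hceq ▸ H6.commutator_le_frattini hp), hceq⟩

/-- `J` centralises the quotient of `C(Z)` by `L`. -/
theorem J_mod {j x : G} (hj : j ∈ J) (hx : x ∈ CZ R) : j * x * j⁻¹ * x⁻¹ ∈ Tri R := by
  classical
  have hJM : ∀ a : J, (a : G) ∈ M R := fun a => C.J_le_M a.2
  let K : Subgroup J :=
    { carrier := {a | ∀ x ∈ CZ R, (a : G) * x * (a : G)⁻¹ * x⁻¹ ∈ Tri R}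
      one_mem' := fun x _ => by simp [one_mem]
      mul_mem' := fun {a b} ha hb x hx => by
        rw [Subgroup.coe_mul, show (a : G) * b * x * ((a : G) * b)⁻¹ * x⁻¹ =
          ((a : G) * ((b : G) * x * (b : G)⁻¹ * x⁻¹) * (a : G)⁻¹) *
            ((a : G) * x * (a : G)⁻¹ * x⁻¹) by group]
        exact mul_mem (C.tri_conj (hJM a) (hb x hx)) (ha x hx)
      inv_mem' := fun {a} ha x hx => by
        have h := inv_mem (ha _ (C.conj_CZ (hJM a) hx))
        rw [show ((a : G) * ((a : G)⁻¹ * x * a) * (a : G)⁻¹ * ((a : G)⁻¹ * x * a)⁻¹)⁻¹ =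
          ((a : G)⁻¹ * x * a) * x⁻¹ by group] at h
        rw [Subgroup.coe_inv, inv_inv]
        exact h }
  haveI : K.Normal := ⟨fun a ha g x hx => by
    rw [Subgroup.coe_mul, Subgroup.coe_mul, Subgroup.coe_inv,
      show (g : G) * a * (g : G)⁻¹ * x * ((g : G) * a * (g : G)⁻¹)⁻¹ * x⁻¹ =
        g * ((a : G) * ((g : G)⁻¹ * x * g) * (a : G)⁻¹ * ((g : G)⁻¹ * x * g)⁻¹) * (g : G)⁻¹ by group]
    exact C.tri_conj (hJM g) (ha _ (C.conj_CZ (hJM g) hx))⟩
  have hEK : EJ ≤ K := fun a ha x hx => by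
    have haL : (a : G) ∈ lineE R := C.D.EJ_eq C.S ▸ ⟨a, ha, rfl⟩
    rw [lineE_comm R haL hx, mul_inv_cancel_right, mul_inv_cancel]
    exact one_mem _
  have hsK : (⟨s, C.hsJ⟩ : J) ∈ K := fun x hx => by
    obtain ⟨t, ht, i, hi, rfl⟩ := C.hI.exists_mul C.S hx
    have hsi : s * i = i * s := (mem_centralizer_singleton_iff.1 (C.hIs hi)).symm
    rw [show s * (t * i) * s⁻¹ * (t * i)⁻¹ = s * t * s⁻¹ * (s * i * s⁻¹ * i⁻¹) * t⁻¹ by group,
      hsi, mul_inv_cancel_right, mul_inv_cancel, mul_one]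
    exact mul_mem (C.tri_conj (C.J_le_M C.hsJ) ht) (inv_mem ht)
  obtain ⟨f, hf, hk⟩ := C.D.iso
  haveI := H47.G23.simple_sl32
  rcases ((inferInstance : K.Normal).map f hf).eq_bot_or_eq_top with h | h
  · exfalso
    have h1 : f ⟨s, C.hsJ⟩ ∈ K.map f := mem_map_of_mem f hsK
    rw [h, mem_bot] at h1
    have h2 : (⟨s, C.hsJ⟩ : J) ∈ EJ := (SetLike.ext_iff.1 hk _).1 (MonoidHom.mem_ker.2 h1)
    exact C.hsz (mem_centralizer_iff.1 ((C.D.mem_J_CZ C.S _).2 h2) z (z_mem_lineE R)).symm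
  · have hK : K = ⊤ := by
      have h' := congrArg (Subgroup.comap f) h
      rwa [comap_map_eq, hk, sup_eq_left.2 hEK, comap_top] at h'
    exact (hK ▸ mem_top (⟨j, hj⟩ : J) : (⟨j, hj⟩ : J) ∈ K) x hx

theorem exists_decomp {m : G} (hm : m ∈ M R) :
    ∃ t ∈ Tri R, ∃ i ∈ I, ∃ j ∈ J, m = t * i * j := by
  obtain ⟨c, hc, hcm⟩ := (C.D.M_structure C.S).2 m hm
  obtain ⟨q, hq, j, hj, rfl⟩ := C.D.exists_mul hc
  have hqZ : q ∈ CZ R := mem_centralizer_iff.2 fun a ha => by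
    obtain ⟨b, -, rfl⟩ := (C.D.EJ_eq C.S).ge ha
    exact (C.D.prod.2.2.1 q hq b b.2).symm
  have hx : j * ((q * j)⁻¹ * m) * j⁻¹ ∈ CZ R := by
    have := C.conj_CZ (inv_mem (C.J_le_M hj)) hcm
    simpa using this
  obtain ⟨t, ht, i, hi, hti⟩ := C.hI.exists_mul C.S (mul_mem hqZ hx)
  exact ⟨t, ht, i, hi, j, hj, by rw [← hti]; group⟩

theorem quotient_iso :
    Nonempty (↥(normalizer (Tri R : Set G)) ⧸ (Tri R).subgroupOf (normalizer (Tri R : Set G)) ≃*
      S5 × SL32) := by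
  classical
  suffices key : ∀ X : Subgroup G, X = M R → ∀ [((Tri R).subgroupOf X).Normal],
      Nonempty (↥X ⧸ (Tri R).subgroupOf X ≃* S5 × SL32) from key _ C.normalizer_eq
  intro X hX _
  subst hX
  haveI hn : ((Tri R).subgroupOf (M R)).Normal :=
    ⟨fun a ha g => mem_subgroupOf.2 (C.tri_conj g.2 (mem_subgroupOf.1 ha))⟩
  set q := QuotientGroup.mk' ((Tri R).subgroupOf (M R)) with hq
  let fi : ↥I →* _ := q.comp (Subgroup.inclusion C.I_le_M)
  let fj : ↥J →* _ := q.comp (Subgroup.inclusion C.J_le_M)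
  have hcomm : ∀ i j, Commute (fi i) (fj j) := by
    intro i j
    show fi i * fj j = fj j * fi i
    simp only [fi, fj, MonoidHom.comp_apply, ← map_mul]
    rw [hq, QuotientGroup.mk'_apply, QuotientGroup.mk'_apply, QuotientGroup.eq, mem_subgroupOf]
    have h := C.J_mod (inv_mem j.2) (inv_mem (C.hI.le i.2))
    show ((i : G) * j)⁻¹ * ((j : G) * i) ∈ Tri R
    simp only [inv_inv] at h
    rwa [mul_inv_rev, ← mul_assoc]
  let Φ := fi.noncommCoprod fj hcomm
  have hΦ : ∀ v, Φ v = fi v.1 * fj v.2 := fun _ => rfl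
  have hsurj : Function.Surjective Φ := by
    intro y
    induction y using QuotientGroup.induction_on with
    | H m =>
      obtain ⟨t, ht, i, hi, j, hj, hm⟩ := C.exists_decomp m.2
      refine ⟨(⟨i, hi⟩, ⟨j, hj⟩), ?_⟩
      rw [hΦ]
      simp only [fi, fj, MonoidHom.comp_apply, ← map_mul]
      rw [hq, QuotientGroup.mk'_apply, QuotientGroup.eq, mem_subgroupOf]
      show (i * j)⁻¹ * (m : G) ∈ Tri R
      rw [hm, show (i * j)⁻¹ * (t * i * j) = (i * j)⁻¹ * t * ((i * j)⁻¹)⁻¹ by group]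
      exact C.tri_conj (inv_mem (mul_mem (C.I_le_M hi) (C.J_le_M hj))) ht
  obtain ⟨φ⟩ := C.hI.iso
  obtain ⟨f, hf, hk⟩ := C.D.iso
  let Ψ : ↥I × ↥J →* S5 × SL32 := φ.toMonoidHom.prodMap f
  have hΨ : Function.Surjective Ψ := by
    rintro ⟨a, b⟩
    obtain ⟨j, rfl⟩ := hf b
    exact ⟨(φ.symm a, j), Prod.ext (φ.apply_symm_apply a) rfl⟩
  have hker : Φ.ker = Ψ.ker := by
    ext ⟨i, j⟩
    rw [MonoidHom.mem_ker, MonoidHom.mem_ker, hΦ]
    simp only [fi, fj, MonoidHom.comp_apply, ← map_mul]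
    rw [hq, QuotientGroup.mk'_apply, QuotientGroup.eq_one_iff, mem_subgroupOf]
    show (i : G) * j ∈ Tri R ↔ (φ i, f j) = (1, 1)
    rw [Prod.ext_iff, map_eq_one_iff φ φ.injective, ← MonoidHom.mem_ker, hk]
    constructor
    · intro h
      have hjC : (j : G) ∈ CZ R := by
        have := mul_mem (inv_mem (C.hI.le i.2)) (Tri_le R h)
        rwa [inv_mul_cancel_left] at this
      have hjE := (C.D.mem_J_CZ C.S j).1 hjC
      have hjT : (j : G) ∈ Tri R := lineE_le_Tri R (C.D.EJ_eq C.S ▸ ⟨j, hjE, rfl⟩)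
      have hiT : (i : G) ∈ Tri R ⊓ I := by
        refine ⟨?_, i.2⟩
        have := mul_mem h (inv_mem hjT)
        rwa [mul_inv_cancel_right] at this
      rw [C.hI.inf_eq_bot (fun _ hx _ ha => Tri_conj R hx ha) (isPGroup_Tri R), mem_bot] at hiT
      exact ⟨Subtype.ext hiT, hjE⟩
    · rintro ⟨hi, hj⟩
      rw [show i = 1 from hi]
      simpa using lineE_le_Tri R (C.D.EJ_eq C.S ▸ ⟨j, hj, rfl⟩)
  exact ⟨((QuotientGroup.quotientKerEquivOfSurjective Φ hsurj).symm.trans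
    (QuotientGroup.quotientMulEquivOfEq hker)).trans
    (QuotientGroup.quotientKerEquivOfSurjective Ψ hΨ)⟩

/-- The normaliser of `Q` lies in that of `L`. -/
theorem normQ_le : normalizer (Q5 R : Set G) ≤ M R := by
  intro n hn
  refine Subgroup.mem_normalizer_fintype fun a ha => ?_
  have hCQ : ∀ x ∈ centralizer (Q5 R : Set G), n * x * n⁻¹ ∈ centralizer (Q5 R : Set G) := by
    intro x hx
    refine mem_centralizer_iff.2 fun u hu => ?_
    have h := mem_centralizer_iff.1 hx _ (((mem_normalizer_iff'').1 hn u).1 hu)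
    calc u * (n * x * n⁻¹) = n * (n⁻¹ * u * n * x) * n⁻¹ := by group
      _ = n * (x * (n⁻¹ * u * n)) * n⁻¹ := by rw [h]
      _ = _ := by group
  have hCQ' : ∀ x ∈ centralizer (Q5 R : Set G), n⁻¹ * x * n ∈ centralizer (Q5 R : Set G) := by
    intro x hx
    refine mem_centralizer_iff.2 fun u hu => ?_
    have h := mem_centralizer_iff.1 hx _ ((mem_normalizer_iff.1 hn u).1 hu)
    calc u * (n⁻¹ * x * n) = n⁻¹ * (n * u * n⁻¹ * x) * n := by group
      _ = n⁻¹ * (x * (n * u * n⁻¹)) * n := by rw [h]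
      _ = _ := by group
  set A := (lineE R).map (MulAut.conj n).toMonoidHom
  have hA : A ≤ EJ.map J.subtype := by
    refine C.D.normal_two_le ?_ ?_ ?_
    · rintro _ ⟨b, hb, rfl⟩
      obtain ⟨c, -, rfl⟩ := (C.D.EJ_eq C.S).ge hb
      exact hCQ _ (C.D.J_le c.2)
    · rintro x hx _ ⟨b, hb, rfl⟩
      have hx' := hCQ' x (C.D.J_le hx)
      refine ⟨(n⁻¹ * x * n) * b * (n⁻¹ * x * n)⁻¹,
        (mem_normalizer_iff.1 (C.D.CQ_le_M C.S hx') b).1 hb, ?_⟩
      show n * _ * n⁻¹ = x * (n * b * n⁻¹) * x⁻¹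
      group
    · exact IsPGroup.of_card (n := 3) (by
        rw [card_map_of_injective (MulAut.conj n).injective, card_lineE]; rfl)
  exact (C.D.EJ_eq C.S) ▸ hA ⟨a, ha, rfl⟩

/-- There is no complement to `L`. -/
theorem no_complement : ∀ K : Subgroup ↥(normalizer (Tri R : Set G)),
    ¬ ((Tri R).subgroupOf (normalizer (Tri R : Set G))).IsComplement' K := by
  classical
  haveI : Fact (Nat.Prime 5) := ⟨by norm_num⟩
  set Mn := normalizer (Tri R : Set G) with hMn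
  set L := (Tri R).subgroupOf Mn with hL
  haveI hn : L.Normal := normal_subgroupOf_of_le_normalizer le_rfl
  intro K hK
  have hMc : Nat.card Mn = 168 * (2 ^ 11 * 1920) := by
    rw [hMn, C.normalizer_eq]; exact (C.D.M_structure C.S).1
  have hKc : Nat.card K = 20160 := by
    have h := hK.card_mul_card
    rw [hMc, hL, Nat.card_congr (subgroupOfEquivOfLe le_normalizer).toEquiv, C.hI.card_Tri C.S] at h
    omega
  obtain ⟨⟨k, hkK⟩, hk⟩ := exists_prime_orderOf_dvd_card' (G := K) 5 (by rw [hKc]; norm_num)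
  rw [Subgroup.orderOf_mk] at hk
  have hqM : (q5 R : G) ∈ Mn := by
    rw [hMn, C.normalizer_eq]
    exact C.D.CQ_le_M C.S ((mem_cent_iff R).2 rfl)
  set qM : Mn := ⟨q5 R, hqM⟩
  have hfac : (Nat.card Mn).factorization 5 = 1 := by
    rw [hMc, show (168 * (2 ^ 11 * 1920) : ℕ) = 5 * 132120576 by norm_num,
      Nat.factorization_mul (by norm_num) (by norm_num), Nat.Prime.factorization (by norm_num)]
    simp [Nat.factorization_eq_zero_of_not_dvd (show ¬ 5 ∣ 132120576 by norm_num)]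
  let Sk : Sylow 5 Mn := Sylow.ofCard (zpowers k) (by rw [Nat.card_zpowers, hk, hfac, pow_one])
  let Sq : Sylow 5 Mn := Sylow.ofCard (zpowers qM) (by
    rw [Nat.card_zpowers, ← Subgroup.orderOf_coe, orderOf_q5, hfac, pow_one])
  obtain ⟨c, hc⟩ := MulAction.exists_smul_eq Mn Sk Sq
  have hqK : c⁻¹ * qM * c ∈ K := by
    have h : qM ∈ ((c • Sk : Sylow 5 Mn) : Subgroup Mn) := hc ▸ mem_zpowers qM
    rw [Sylow.coe_subgroup_smul] at h
    obtain ⟨y, hy, hyq⟩ := h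
    have : c⁻¹ * qM * c = y := by
      rw [← hyq]
      show c⁻¹ * (c * y * c⁻¹) * c = y
      group
    rw [this]
    exact zpowers_le.2 hkK hy
  have hdis : ∀ v, v ∈ L → v ∈ K → v = 1 := fun v h1 h2 =>
    Subgroup.disjoint_def.1 hK.disjoint h1 h2
  -- the trace of the complement on `J`
  let K' : Subgroup J :=
    (K.map (MulAut.conj c).toMonoidHom).comap (Subgroup.inclusion (C.J_le_M.trans C.normalizer_eq.ge))
  apply C.D.nonsplit K'
  have hmem : ∀ a : J, a ∈ K' ↔ c⁻¹ * ⟨a, C.normalizer_eq.ge (C.J_le_M a.2)⟩ * c ∈ K := by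
    intro a
    constructor
    · rintro ⟨y, hy, hye⟩
      change c * y * c⁻¹ = (⟨a, C.normalizer_eq.ge (C.J_le_M a.2)⟩ : Mn) at hye
      rw [← hye, show c⁻¹ * (c * y * c⁻¹) * c = y by group]
      exact hy
    · intro h
      refine ⟨_, h, ?_⟩
      show c * (c⁻¹ * (⟨a, C.normalizer_eq.ge (C.J_le_M a.2)⟩ : Mn) * c) * c⁻¹ = _
      group
      rfl
  have hdis' : ∀ a : J, a ∈ EJ → a ∈ K' → a = 1 := by
    intro a ha ha'
    set aM : Mn := ⟨a, C.normalizer_eq.ge (C.J_le_M a.2)⟩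
    have haL : aM ∈ L := mem_subgroupOf.2 (lineE_le_Tri R (C.D.EJ_eq C.S ▸ ⟨a, ha, rfl⟩))
    have h1 := hdis _ (by simpa using hn.conj_mem aM haL c⁻¹) ((hmem a).1 ha')
    have h2 : aM = 1 := by
      have e : aM = c * (c⁻¹ * aM * c) * c⁻¹ := by group
      rw [e, h1]; group
    exact Subtype.ext (show (a : G) = 1 from congrArg (fun v : Mn => (v : G)) h2)
  refine isComplement'_of_disjoint_and_mul_eq_univ (Subgroup.disjoint_def.2 fun {x} h1 h2 =>
    hdis' x h1 h2) ?_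
  refine Set.eq_univ_of_forall fun a => ?_
  set aM : Mn := ⟨a, C.normalizer_eq.ge (C.J_le_M a.2)⟩
  obtain ⟨⟨⟨l, hl⟩, ⟨k', hk'⟩⟩, hlk⟩ := hK.2 (c⁻¹ * aM * c)
  change l * k' = c⁻¹ * aM * c at hlk
  set q' := c⁻¹ * qM * c with hq'
  have hcomm : q' * (l * k') * q'⁻¹ = l * k' := by
    have h0 : qM * aM = aM * qM := Subtype.ext ((mem_cent_iff R).1 (C.D.J_le a.2))
    rw [hlk, hq']
    calc c⁻¹ * qM * c * (c⁻¹ * aM * c) * (c⁻¹ * qM * c)⁻¹ = c⁻¹ * (qM * aM * qM⁻¹) * c := by group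
      _ = _ := by rw [h0, mul_inv_cancel_right]
  have h1 : l⁻¹ * (q' * l * q'⁻¹) = k' * (q' * k' * q'⁻¹)⁻¹ := by
    calc l⁻¹ * (q' * l * q'⁻¹) = l⁻¹ * (q' * (l * k') * q'⁻¹) * (q' * k' * q'⁻¹)⁻¹ := by group
      _ = _ := by rw [hcomm]; group
  have h2 : l⁻¹ * (q' * l * q'⁻¹) = 1 := hdis _ (L.mul_mem (L.inv_mem hl) (hn.conj_mem l hl q'))
    (h1 ▸ K.mul_mem hk' (K.inv_mem (K.mul_mem (K.mul_mem hqK hk') (K.inv_mem hqK))))
  set l' := c * l * c⁻¹ with hl'
  have hl'q : qM * l' * qM⁻¹ = l' := by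
    have h3 : q' * l * q'⁻¹ = l := (inv_mul_eq_one.1 h2).symm
    calc qM * l' * qM⁻¹ = c * (q' * l * q'⁻¹) * c⁻¹ := by rw [hl', hq']; group
      _ = l' := by rw [h3]
  have hl'T : (l' : G) ∈ Tri R := mem_subgroupOf.1 (hn.conj_mem l hl c)
  set A := Tri R ⊓ centralizer (Q5 R : Set G)
  have hA : A ≤ EJ.map J.subtype := C.D.normal_two_le inf_le_right
    (fun x hx b hb => ⟨C.tri_conj (C.J_le_M hx) hb.1,
      (centralizer _).mul_mem ((centralizer _).mul_mem (C.D.J_le hx) hb.2) ((centralizer _).inv_mem (C.D.J_le hx))⟩)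
    ((isPGroup_Tri R).to_le inf_le_left)
  obtain ⟨b, hb, hbl⟩ := hA (x := (l' : G)) ⟨hl'T, (mem_cent_iff R).2
    (mul_inv_eq_iff_eq_mul.1 (congrArg Subtype.val hl'q))⟩
  change (b : G) = (l' : G) at hbl
  refine ⟨b, hb, b⁻¹ * a, (hmem _).2 ?_, by simp⟩
  have e1 : (⟨((b⁻¹ * a : J) : G), C.normalizer_eq.ge (C.J_le_M (b⁻¹ * a : J).2)⟩ : Mn) =
      l'⁻¹ * aM := Subtype.ext (by
    show (b : G)⁻¹ * (a : G) = (l' : G)⁻¹ * a
    rw [hbl])
  rw [e1, show c⁻¹ * (l'⁻¹ * aM) * c = l⁻¹ * (c⁻¹ * aM * c) by rw [hl']; group, ← hlk,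
    inv_mul_cancel_left]
  exact hk'

end Core

end H11.J4Pent
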