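import Cfsg.Agent.H11.J4Pent.Seven

/-!
The two-core `L` of the centralizer of the line, of order `2 ^ 15`.
-/

set_option autoImplicit false
set_option linter.unusedSectionVars false
set_option linter.style.haveILetI false

namespace H11.J4Pent

open Subgroup Cfsg.Agent.H69.J4 H88.J4Fusion H95.J4Five

variable {G : Type*} [Group G] [Finite G]
variable {z : G} {E P N : Subgroup G} {d : Data z E P} (R : Real d)
  {e : ↥(centralizer ({z} : Set G)) →* MulAut ↥Cfsg.Spor.M22}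

theorem CZ_fix {x a : G} (hx : x ∈ CZ R) (ha : a ∈ lineE R) : x * a * x⁻¹ = a := by
  rw [← mem_centralizer_iff.1 hx a ha, mul_inv_cancel_right]

theorem conj_EZ {x a : G} (hx : x ∈ CZ R) (ha : a ∈ EZ R) : x * a * x⁻¹ ∈ EZ R :=
  mem_inf.2 ⟨d.L.conj_mem (CZ_le_H R hx) ha.1, mul_mem (mul_mem hx ha.2) (inv_mem hx)⟩

/-- The elements acting trivially on `C_E(Z)` modulo the line. -/
def Tri : Subgroup G where
  carrier := {x | x ∈ CZ R ∧ ∀ a ∈ EZ R, x * a * x⁻¹ * a⁻¹ ∈ lineE R}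
  one_mem' := ⟨one_mem _, fun a _ => by simp [one_mem]⟩
  mul_mem' := by
    rintro x y ⟨hx, hx'⟩ ⟨hy, hy'⟩
    refine ⟨mul_mem hx hy, fun a ha => ?_⟩
    rw [show x * y * a * (x * y)⁻¹ * a⁻¹ =
      (x * (y * a * y⁻¹ * a⁻¹) * x⁻¹) * (x * a * x⁻¹ * a⁻¹) by group, CZ_fix R hx (hy' a ha)]
    exact mul_mem (hy' a ha) (hx' a ha)
  inv_mem' := by
    rintro x ⟨hx, hx'⟩
    refine ⟨inv_mem hx, fun a ha => ?_⟩
    have h := hx' _ (conj_EZ R (inv_mem hx) ha)
    rw [inv_inv, show x * (x⁻¹ * a * x) * x⁻¹ * (x⁻¹ * a * x)⁻¹ = (x⁻¹ * a * x * a⁻¹)⁻¹ by group,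
      inv_mem_iff] at h
    rwa [inv_inv]

theorem Tri_le : Tri R ≤ CZ R := fun _ hx => hx.1

theorem lineE_comm {a b : G} (ha : a ∈ lineE R) (hb : b ∈ CZ R) : a * b = b * a :=
  mem_centralizer_iff.1 hb a ha

theorem EZ_le_Tri : EZ R ≤ Tri R := fun x hx => ⟨hx.2, fun a ha => by
  rcases d.L.conj_cases hx.1 ha.1 with h | h
  · rw [h, mul_inv_cancel_right, mul_inv_cancel]; exact one_mem _
  · rw [h, mul_inv_cancel_right]; exact z_mem_lineE R⟩

theorem lineE_le_Tri : lineE R ≤ Tri R := (lineE_le_EZ R).trans (EZ_le_Tri R)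

theorem Tri_conj {x t : G} (hx : x ∈ CZ R) (ht : t ∈ Tri R) : x * t * x⁻¹ ∈ Tri R := by
  refine ⟨mul_mem (mul_mem hx ht.1) (inv_mem hx), fun a ha => ?_⟩
  have hb : x⁻¹ * a * x ∈ EZ R := by simpa using conj_EZ R (inv_mem hx) ha
  rw [show x * t * x⁻¹ * a * (x * t * x⁻¹)⁻¹ * a⁻¹ =
    x * (t * (x⁻¹ * a * x) * t⁻¹ * (x⁻¹ * a * x)⁻¹) * x⁻¹ by group, CZ_fix R hx (ht.2 _ hb)]
  exact ht.2 _ hb

/-- An element of `C(Z)` centralising `C_E(Z)` has square centralising `E`. -/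
theorem sq_mem_cent {k : G} (hk : k ∈ CZ R) (hfix : ∀ a ∈ EZ R, k * a * k⁻¹ = a) :
    k * k ∈ centralizer (E : Set G) := by
  refine mem_centralizer_iff.2 fun y hy => ?_
  set u := k * y * k⁻¹ * y⁻¹ with hu
  have huE : u ∈ E := mul_mem (d.L.conj_mem (CZ_le_H R hk) hy) (inv_mem hy)
  have hcomm : ∀ a ∈ EZ R, u * a = a * u := by
    intro a ha
    have hb : y⁻¹ * a * y ∈ EZ R := by
      rcases d.L.conj_cases (E.inv_mem hy) ha.1 with h | h
      · rw [h, inv_mul_cancel_right]; exact ha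
      · rw [inv_inv] at h
        rw [h]; exact mul_mem (lineE_le_EZ R (z_mem_lineE R)) ha
    have h1 := hfix _ (inv_mem ((EZ R).inv_mem hb))
    refine mul_inv_eq_iff_eq_mul.1 ?_
    calc u * a * u⁻¹ = k * y * (k⁻¹ * (y⁻¹ * a * y) * k) * y⁻¹ * k⁻¹ := by rw [hu]; group
      _ = k * y * (y⁻¹ * a * y) * y⁻¹ * k⁻¹ := by
          have h2 : k * (y⁻¹ * a * y) * k⁻¹ = y⁻¹ * a * y := by simpa using h1
          conv_lhs => rw [← h2]
          group
      _ = k * a * k⁻¹ := by group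
      _ = a := hfix a ha
  have huL : u ∈ lineE R := by
    obtain ⟨v, hv, hvu⟩ := exists_coord R huE
    refine (mem_lineE_iff R huE hv hvu).2 ?_
    have h := (List.all_eq_true.1 perp_ok) v (List.mem_range.2 hv)
    rw [Bool.or_eq_true, List.contains_iff_mem] at h
    refine h.resolve_right fun h' => ?_
    obtain ⟨w, hw, hb⟩ := List.any_eq_true.1 h'
    rw [Bool.and_eq_true] at hb
    have hwlt := List.mem_range.1 hw
    obtain ⟨a, ha, haw⟩ := exists_over R w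
    have := (comm_bF R huE ha hv hwlt hvu haw).1
      (hcomm a ((mem_EZ_iff R ha hwlt haw).2 hb.1))
    rw [this] at hb
    exact Bool.false_ne_true hb.2
  refine (mul_inv_eq_iff_eq_mul.1 ?_).symm
  calc k * k * y * (k * k)⁻¹ = k * (u * y) * k⁻¹ := by rw [hu]; group
    _ = (k * u * k⁻¹) * (k * y * k⁻¹) := by group
    _ = u * (u * y) := by rw [CZ_fix R hk huL, hu]; group
    _ = y := by rw [← mul_assoc, lineE_sq R huL, one_mul]

theorem isPGroup_Tri : IsPGroup 2 (Tri R) := by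
  classical
  refine IsPGroup.of_card (n := (Nat.card (Tri R)).factorization 2) ?_
  by_contra hne
  obtain ⟨q, hq, hqd, hq2⟩ : ∃ q, q.Prime ∧ q ∣ Nat.card (Tri R) ∧ q ≠ 2 := by
    by_contra hall
    push Not at hall
    have hno := Nat.eq_prime_pow_of_unique_prime_dvd (n := Nat.card (Tri R)) Nat.card_pos.ne'
      (p := 2) fun {q} hq hqd => hall q hq hqd
    apply hne
    conv_rhs => rw [hno, Nat.Prime.factorization_pow Nat.prime_two]
    simpa using hno
  haveI : Fact q.Prime := ⟨hq⟩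
  obtain ⟨⟨k, hk⟩, hko⟩ := exists_prime_orderOf_dvd_card' q hqd
  rw [Subgroup.orderOf_mk] at hko
  obtain ⟨t, ht⟩ := hq.odd_of_ne_two hq2
  have hkq : k ^ q = 1 := hko ▸ pow_orderOf_eq_one k
  have hfix : ∀ a ∈ EZ R, k * a * k⁻¹ = a := by
    intro a ha
    set ζ := k * a * k⁻¹ * a⁻¹ with hζ
    have hz := hk.2 a ha
    have hn : ∀ n : ℕ, k ^ n * a * (k ^ n)⁻¹ = ζ ^ n * a := by
      intro n
      induction n with
      | zero => simp
      | succ n ih =>
        calc k ^ (n + 1) * a * (k ^ (n + 1))⁻¹ = k * (k ^ n * a * (k ^ n)⁻¹) * k⁻¹ := by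
              rw [pow_succ']; group
          _ = (k * ζ ^ n * k⁻¹) * (k * a * k⁻¹) := by rw [ih]; group
          _ = ζ ^ n * (ζ * a) := by
              rw [CZ_fix R hk.1 ((lineE R).pow_mem hz n), hζ]; group
          _ = ζ ^ (n + 1) * a := by rw [pow_succ]; group
    have h := hn q
    rw [hkq, one_mul, inv_one, mul_one, ht, pow_succ, pow_mul, sq, lineE_sq R hz, one_pow,
      one_mul] at h
    have h1 : ζ = 1 := mul_eq_right.1 h.symm
    rw [hζ, mul_inv_eq_one] at h1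
    exact h1
  have hE : k * k ∈ E := d.L.hcent (sq_mem_cent R hk.1 hfix)
  have h13 : orderOf (k * k) ∣ 2 ^ 13 := d.cardE ▸ E.orderOf_dvd_natCard hE
  have hq' : orderOf (k * k) ∣ q :=
    orderOf_dvd_of_pow_eq_one (by rw [← sq, ← pow_mul, mul_comm, pow_mul, hkq, one_pow])
  have h1 : k * k = 1 := orderOf_eq_one_iff.1 (Nat.eq_one_of_dvd_coprimes
    (((Nat.coprime_primes Nat.prime_two hq).2 (Ne.symm hq2)).pow_left 13) h13 hq')
  have h2 : orderOf k ∣ 2 := orderOf_dvd_of_pow_eq_one (by rw [sq, h1])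
  rw [hko] at h2
  exact hq2 ((Nat.prime_dvd_prime_iff_eq hq Nat.prime_two).1 h2)

/-- A word fixing `1025` lifts to the centralizer of the line. -/
theorem exists_word_CZ {w : List ℕ} (h : ap (evalM w) 1025 = 1025) :
    ∃ k, ∃ hk : k ∈ CZ R, R.code (d.ρ ⟨k, CZ_le_H R hk⟩) = evalM w := by
  have hc : R.word w ∈ Outer.cP z P := R.word_mem w
  have ha : d.ρ (R.word w) (R.φ 1025) = R.φ 1025 := by rw [R.apply, R.mat_word, h]
  have hb : d.ρ (R.word w) (R.φ 2618) = R.φ 2618 := by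
    have hcomm : d.ρ (R.word w) * d.ρ (R.g 3) = d.ρ (R.g 3) * d.ρ (R.word w) := by
      rw [← map_mul, ← map_mul]
      exact congrArg d.ρ (Subtype.ext (mem_centralizer_iff.1 (mem_subgroupOf.1 hc) _ R.memP).symm)
    have hwv : ∀ v, d.ρ (R.g 3) (R.φ v) = R.φ (ap mW v) := fun v => by
      rw [R.apply, R.mat_letter]; rfl
    have h5 := DFunLike.congr_fun hcomm (R.φ 1025)
    simp only [MulAut.mul_apply] at h5
    rwa [hwv, wline_ok.1, ha, hwv, wline_ok.1] at h5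
  obtain ⟨u, hu, hk⟩ := adjust R (R.word w) ha hb
  refine ⟨_, hk, ?_⟩
  rw [show (⟨u * (R.word w : G), CZ_le_H R hk⟩ : ↥(centralizer ({z} : Set G))) =
    ⟨u, d.L.le_H hu⟩ * R.word w from rfl, map_mul,
    (d.mem_ker_iff).2 (show ((⟨u, d.L.le_H hu⟩ : ↥(centralizer ({z} : Set G))) : G) ∈ E from hu),
    one_mul, R.mat_word]

theorem mk_commutator {x a : G} (hx : x ∈ CZ R) (ha : a ∈ E) {v : ℕ}
    (hv : R.φ v = QuotientGroup.mk (⟨a, ha⟩ : E)) :
    R.φ (ap (R.code (d.ρ ⟨x, CZ_le_H R hx⟩)) v ^^^ v) =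
      QuotientGroup.mk (⟨x * a * x⁻¹ * a⁻¹,
        mul_mem (d.L.conj_mem (CZ_le_H R hx) ha) (inv_mem ha)⟩ : E) := by
  rw [R.φ_xor, ← R.apply, hv, d.ρ_mk,
    show (⟨x * a * x⁻¹ * a⁻¹, mul_mem (d.L.conj_mem (CZ_le_H R hx) ha) (inv_mem ha)⟩ : E) =
      ⟨x * a * x⁻¹, d.L.conj_mem (CZ_le_H R hx) ha⟩ * (⟨a, ha⟩ : E)⁻¹ from rfl,
    QuotientGroup.mk_mul, QuotientGroup.mk_inv, inv_eq_of_mul_eq_one_right (d.sq_bar _)]

theorem exists_ker {w : List ℕ} (hw : w ∈ kerW) :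
    ∃ k, ∃ hk : k ∈ CZ R, k ∈ Tri R ∧ R.code (d.ρ ⟨k, CZ_le_H R hk⟩) = evalM w := by
  have h := (List.all_eq_true.1 kerW_ok) w hw
  rw [Bool.and_eq_true] at h
  obtain ⟨k, hk, hc⟩ := exists_word_CZ R (Nat.eq_of_beq_eq_true h.1)
  refine ⟨k, hk, ⟨hk, fun a ha => ?_⟩, hc⟩
  obtain ⟨v, hv, hva⟩ := exists_coord R ha.1
  have hD := (mem_EZ_iff R ha.1 hv hva).1 ha
  have ht := (List.all_eq_true.1 h.2) v (List.mem_range.2 hv)
  rw [hD, Bool.not_true, Bool.false_or, List.contains_iff_mem] at ht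
  have hm := mk_commutator R hk ha.1 hva
  rw [hc] at hm
  exact ⟨_, _, ht, hm⟩

/-- The action of `L`. -/
def ρT : ↥(Tri R) →* MulAut (Bar E) := (ρZ R).comp (Subgroup.inclusion (Tri_le R))

theorem card_ker_ρT : Nat.card (ρT R).ker = 2 ^ 11 := by
  rw [← card_EZ R]
  exact Nat.card_congr
    { toFun := fun x => ⟨x.1.1, (mem_ker_ρZ R).1 (show Subgroup.inclusion (Tri_le R) x.1 ∈ (ρZ R).ker
        from x.2)⟩
      invFun := fun x => ⟨⟨x.1, EZ_le_Tri R x.2⟩, show Subgroup.inclusion (Tri_le R) _ ∈ (ρZ R).ker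
        from (mem_ker_ρZ R).2 x.2⟩
      left_inv := fun _ => rfl
      right_inv := fun _ => rfl }

/-- The witnesses as elements of the image. -/
theorem exists_witness (i : Fin 16) :
    ∃ y ∈ (ρT R).range, R.code y = evalM (kerW.getD i []) := by
  have hi : (i : ℕ) < kerW.length := kerW_inj.2.symm ▸ i.2
  obtain ⟨k, hk, hkT, hc⟩ := exists_ker R (w := kerW.getD i []) (by
    rw [List.getD_eq_getElem (hn := hi)]; exact List.getElem_mem hi)
  exact ⟨_, ⟨⟨k, hkT⟩, rfl⟩, hc⟩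

theorem witness_inj : Function.Injective fun i : Fin 16 => (exists_witness R i).choose := by
  intro i j h
  have h' := congrArg R.code h
  rw [(exists_witness R i).choose_spec.2, (exists_witness R j).choose_spec.2] at h'
  have hi : (i : ℕ) < kerW.length := kerW_inj.2.symm ▸ i.2
  have hj : (j : ℕ) < kerW.length := kerW_inj.2.symm ▸ j.2
  rw [List.getD_eq_getElem (hn := hi), List.getD_eq_getElem (hn := hj)] at h'
  have := (kerW_inj.1.getElem_inj_iff (i := (i : ℕ)) (j := (j : ℕ))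
    (hi := by simpa using hi) (hj := by simpa using hj)).1 (by simpa using h')
  exact Fin.ext this

theorem le_card_Tri : 2 ^ 15 ≤ Nat.card (Tri R) := by
  have h := (ρT R).ker.card_mul_index
  rw [card_ker_ρT, index_ker] at h
  have h16 : 16 ≤ Nat.card (ρT R).range := by
    haveI := R.finite_aut
    rw [← Nat.card_fin 16]
    exact Nat.card_le_card_of_injective
      (fun i => (⟨_, (exists_witness R i).choose_spec.1⟩ : (ρT R).range))
      fun i j e => witness_inj R (congrArg Subtype.val e)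
  calc 2 ^ 15 = 2 ^ 11 * 16 := by norm_num
    _ ≤ 2 ^ 11 * Nat.card (ρT R).range := Nat.mul_le_mul_left _ h16
    _ = Nat.card (Tri R) := h

variable {I : Subgroup G}

/-- The complement of the two-core. -/
structure IHyp (I : Subgroup G) : Prop where
  le : I ≤ CZ R
  iso : Nonempty (↥I ≃* S5)

variable {R} (hI : IHyp R I)
include hI

theorem IHyp.inf_eq_bot {A : Subgroup G} (hn : ∀ x ∈ CZ R, ∀ a ∈ A, x * a * x⁻¹ ∈ A)
    (hp : IsPGroup 2 A) : A ⊓ I = ⊥ := by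
  obtain ⟨φ⟩ := hI.iso
  haveI : (A.subgroupOf I).Normal :=
    ⟨fun a ha g => mem_subgroupOf.2 (hn g (hI.le g.2) a (mem_subgroupOf.1 ha))⟩
  haveI : ((A.subgroupOf I).map φ.toMonoidHom).Normal := Normal.map inferInstance _ φ.surjective
  have hp' : IsPGroup 2 (A.subgroupOf I) := fun a => by
    obtain ⟨k, hk⟩ := hp ⟨a.1.1, mem_subgroupOf.1 a.2⟩
    exact ⟨k, Subtype.ext (Subtype.ext (by
      have := congrArg Subtype.val hk
      simpa using this))⟩
  have h := no_normal_two _ (hp'.map φ.toMonoidHom)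
  rw [map_eq_bot_iff_of_injective _ φ.injective] at h
  rw [eq_bot_iff]
  rintro x ⟨hxA, hxI⟩
  have : (⟨x, hxI⟩ : I) ∈ A.subgroupOf I := mem_subgroupOf.2 hxA
  rw [h, mem_bot] at this
  rw [mem_bot]
  exact congrArg Subtype.val this

theorem IHyp.card_I : Nat.card I = 120 := by
  obtain ⟨φ⟩ := hI.iso
  rw [Nat.card_congr φ.toEquiv, Nat.card_eq_fintype_card, Fintype.card_perm, Fintype.card_fin]
  rfl

theorem IHyp.mul_card_le {A : Subgroup G} (hA : A ≤ CZ R)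
    (hn : ∀ x ∈ CZ R, ∀ a ∈ A, x * a * x⁻¹ ∈ A) (hp : IsPGroup 2 A) (S : Setup R e N) :
    Nat.card A ≤ 2 ^ 15 ∧ (Nat.card A = 2 ^ 15 → ∀ x ∈ CZ R, ∃ a ∈ A, ∃ i ∈ I, x = a * i) := by
  let f : ↥A × ↥I → ↥(CZ R) := fun v => ⟨v.1 * v.2, mul_mem (hA v.1.2) (hI.le v.2.2)⟩
  have hf : Function.Injective f := fun a b h => by
    have h' : (a.1 : G) * a.2 = b.1 * b.2 := congrArg Subtype.val h
    have hm : (b.1 : G)⁻¹ * a.1 ∈ A ⊓ I := by
      refine ⟨A.mul_mem (A.inv_mem b.1.2) a.1.2, ?_⟩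
      rw [show (b.1 : G)⁻¹ * a.1 = (b.1 : G)⁻¹ * (a.1 * a.2) * (a.2 : G)⁻¹ by group, h',
        inv_mul_cancel_left]
      exact I.mul_mem b.2.2 (I.inv_mem a.2.2)
    rw [hI.inf_eq_bot hn hp, mem_bot, inv_mul_eq_one] at hm
    exact Prod.ext (Subtype.ext hm.symm) (Subtype.ext (mul_left_cancel (hm ▸ h')))
  have h := Nat.card_le_card_of_injective f hf
  rw [Nat.card_prod, hI.card_I, card_CZ R S, show 2 ^ 11 * 1920 = 2 ^ 15 * 120 by norm_num] at h
  refine ⟨Nat.le_of_mul_le_mul_right h (by norm_num), fun he x hx => ?_⟩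
  obtain ⟨⟨a, i⟩, hai⟩ := (hf.bijective_of_nat_card_le (by
    rw [Nat.card_prod, hI.card_I, he, card_CZ R S]; norm_num)).2 ⟨x, hx⟩
  exact ⟨a, a.2, i, i.2, (congrArg Subtype.val hai).symm⟩

theorem IHyp.card_Tri (S : Setup R e N) : Nat.card (Tri R) = 2 ^ 15 :=
  le_antisymm (hI.mul_card_le (Tri_le R) (fun _ hx _ ha => Tri_conj R hx ha) (isPGroup_Tri R) S).1
    (le_card_Tri R)

theorem IHyp.exists_mul (S : Setup R e N) {x : G} (hx : x ∈ CZ R) :
    ∃ a ∈ Tri R, ∃ i ∈ I, x = a * i :=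
  (hI.mul_card_le (Tri_le R) (fun _ hx _ ha => Tri_conj R hx ha) (isPGroup_Tri R) S).2
    (hI.card_Tri S) x hx

/-- The two-core is normal in the normaliser of the line. -/
theorem IHyp.Tri_normal (S : Setup R e N) {m t : G} (hm : m ∈ M R) (ht : t ∈ Tri R) :
    m * t * m⁻¹ ∈ Tri R := by
  classical
  have hCZn : ∀ x ∈ CZ R, m⁻¹ * x * m ∈ CZ R := fun x hx => by
    refine mem_centralizer_iff.2 fun a ha => ?_
    have h := mem_centralizer_iff.1 hx _ ((mem_normalizer_iff.1 hm a).1 ha)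
    calc a * (m⁻¹ * x * m) = m⁻¹ * (m * a * m⁻¹ * x) * m := by group
      _ = m⁻¹ * (x * (m * a * m⁻¹)) * m := by rw [h]
      _ = _ := by group
  have hCZn' : ∀ x ∈ CZ R, m * x * m⁻¹ ∈ CZ R := fun x hx => by
    refine mem_centralizer_iff.2 fun a ha => ?_
    have h := mem_centralizer_iff.1 hx _ (((mem_normalizer_iff'').1 hm a).1 ha)
    calc a * (m * x * m⁻¹) = m * (m⁻¹ * a * m * x) * m⁻¹ := by group
      _ = m * (x * (m⁻¹ * a * m)) * m⁻¹ := by rw [h]
      _ = _ := by group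
  set K := (Tri R).map (MulAut.conj m).toMonoidHom with hK
  have hKle : K ≤ CZ R := by
    rintro _ ⟨x, hx, rfl⟩
    exact hCZn' x (Tri_le R hx)
  let T' := (Tri R).subgroupOf (CZ R)
  let K' := K.subgroupOf (CZ R)
  haveI : T'.Normal :=
    ⟨fun a ha g => mem_subgroupOf.2 (Tri_conj R g.2 (mem_subgroupOf.1 ha))⟩
  haveI : K'.Normal := ⟨fun a ha g => by
    obtain ⟨x, hx, hxa⟩ := mem_subgroupOf.1 ha
    refine mem_subgroupOf.2 ⟨(m⁻¹ * (g : G) * m) * x * (m⁻¹ * (g : G) * m)⁻¹,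
      Tri_conj R (hCZn g g.2) hx, ?_⟩
    change m * x * m⁻¹ = (a : G) at hxa
    show m * _ * m⁻¹ = (g : G) * a * (g : G)⁻¹
    rw [← hxa]
    group⟩
  have hpT : IsPGroup 2 T' := (isPGroup_Tri R).comap_of_injective _ (CZ R).subtype_injective
  have hpK : IsPGroup 2 K' :=
    ((isPGroup_Tri R).map _).comap_of_injective _ (CZ R).subtype_injective
  have hp : IsPGroup 2 ↥(T' ⊔ K') := hpT.to_sup_of_normal_right hpK
  set A := (T' ⊔ K').map (CZ R).subtype with hA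
  have hAn : ∀ x ∈ CZ R, ∀ a ∈ A, x * a * x⁻¹ ∈ A := by
    rintro x hx _ ⟨b, hb, rfl⟩
    exact ⟨⟨x, hx⟩ * b * ⟨x, hx⟩⁻¹, (inferInstance : (T' ⊔ K').Normal).conj_mem b hb _, rfl⟩
  have hle := (hI.mul_card_le (map_subtype_le _) hAn (hp.map _) S).1
  have heq : Tri R = A := Subgroup.eq_of_le_of_card_ge
    (fun x hx => ⟨⟨x, Tri_le R hx⟩, mem_sup_left (mem_subgroupOf.2 hx), rfl⟩)
    (by rw [hI.card_Tri S]; exact hle)
  rw [heq]
  refine ⟨⟨m * t * m⁻¹, hKle ⟨t, ht, rfl⟩⟩, mem_sup_right (mem_subgroupOf.2 ⟨t, ht, rfl⟩), rfl⟩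

/-- The image of `L` consists of the sixteen witnesses. -/
theorem IHyp.code_Tri (S : Setup R e N) (t : Tri R) :
    ∃ w ∈ kerW, R.code (ρT R t) = evalM w := by
  classical
  haveI := R.finite_aut
  have h := (ρT R).ker.card_mul_index
  rw [card_ker_ρT, index_ker, hI.card_Tri S] at h
  let f : Fin 16 → ↥(ρT R).range := fun i => ⟨_, (exists_witness R i).choose_spec.1⟩
  have hb : Function.Bijective f := (Function.Injective.bijective_of_nat_card_le
    (f := f) (fun i j e => witness_inj R (congrArg Subtype.val e)) (by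
      rw [Nat.card_fin]; norm_num at h ⊢; omega))
  obtain ⟨i, hi⟩ := hb.2 ⟨ρT R t, t, rfl⟩
  have hi' : (exists_witness R i).choose = ρT R t := congrArg Subtype.val hi
  have hlt : (i : ℕ) < kerW.length := kerW_inj.2.symm ▸ i.2
  refine ⟨kerW.getD i [], ?_, ?_⟩
  · rw [List.getD_eq_getElem (hn := hlt)]; exact List.getElem_mem hlt
  · rw [← hi']; exact (exists_witness R i).choose_spec.2

/-- An element of `L` centralising `C_E(Z)` lies in the line. -/
theorem IHyp.mem_line_of_fix (S : Setup R e N) {k : G} (hk : k ∈ Tri R)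
    (hfix : ∀ a ∈ EZ R, k * a * k⁻¹ = a) : k ∈ lineE R := by
  obtain ⟨w, hw, hc⟩ := hI.code_Tri S ⟨k, hk⟩
  have hρ : d.ρ ⟨k, CZ_le_H R (Tri_le R hk)⟩ = 1 := by
    change R.code (d.ρ ⟨k, CZ_le_H R (Tri_le R hk)⟩) = evalM w at hc
    have h := (List.all_eq_true.1 kerW_faithful) w hw
    rw [Bool.or_eq_true, beq_iff_eq] at h
    rcases h with h | h
    · exact R.mat_inj (by rw [hc, h, R.mat_one])
    · exfalso
      obtain ⟨v, hv, hb⟩ := List.any_eq_true.1 h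
      rw [Bool.and_eq_true, Bool.not_eq_true'] at hb
      have hlt := List.mem_range.1 hv
      obtain ⟨a, ha, hva⟩ := exists_over R v
      have h1 := R.apply (d.ρ ⟨k, CZ_le_H R (Tri_le R hk)⟩) v
      rw [hva, d.ρ_mk, hc] at h1
      have h2 : (⟨k * a * k⁻¹, d.L.conj_mem (CZ_le_H R (Tri_le R hk)) ha⟩ : E) = ⟨a, ha⟩ :=
        Subtype.ext (hfix a ((mem_EZ_iff R ha hlt hva).2 hb.1))
      rw [h2, ← hva] at h1
      have h3 := R.φ_inj hlt (hc ▸ code_lt R _ v) h1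
      rw [← h3, Nat.beq_refl] at hb
      exact Bool.false_ne_true hb.2.symm
  have hE : k ∈ E := (d.mem_ker_iff (h := ⟨k, CZ_le_H R (Tri_le R hk)⟩)).1 hρ
  obtain ⟨v, hv, hvk⟩ := exists_coord R hE
  refine (mem_lineE_iff R hE hv hvk).2 ?_
  have h := (List.all_eq_true.1 perp_ok) v (List.mem_range.2 hv)
  rw [Bool.or_eq_true, List.contains_iff_mem] at h
  refine h.resolve_right fun h' => ?_
  obtain ⟨w', hw', hb⟩ := List.any_eq_true.1 h'
  rw [Bool.and_eq_true] at hb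
  have hlt := List.mem_range.1 hw'
  obtain ⟨a, ha, haw⟩ := exists_over R w'
  have := (comm_bF R hE ha hv hlt hvk haw).1
    (mul_inv_eq_iff_eq_mul.1 (hfix a ((mem_EZ_iff R ha hlt haw).2 hb.1)))
  rw [this] at hb
  exact Bool.false_ne_true hb.2

end H11.J4Pent
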